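import Mathlib
import Cfsg.Agent.ClassicalGeometry.OmegaIndex
import Cfsg.Agent.ClassicalGeometry.OrthDickson
import Cfsg.Agent.LieClassical.OrthCenter
import Cfsg.Agent.H504.ZerosLie
import Cfsg.Agent.H93.Classical
import Cfsg.Agent.S0295
import Cfsg.Agent.S0296
import Cfsg.Agent.S0297
import Cfsg.Agent.Lib.FinFast
import Cfsg.Agent.H868.KSL2
import Cfsg.Agent.H378.RegE7
import Cfsg.Agent.Lib.Zsigmondy
import Cfsg.Agent.S1054
import Cfsg.Prelude.Def_LieTypeChar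
import Cfsg.Agent.H504.ZerosCyc
import Cfsg.Agent.H868.KTwE6
import Cfsg.Agent.H129.CycRow
import Cfsg.Agent.H46.MSChev
import Cfsg.Agent.H494.TwE6Five
import Cfsg.Agent.S0242
import Cfsg.Agent.S1063
import Cfsg.Agent.S1066
import Cfsg.Agent.H701.ZerosCols
import Cfsg.Agent.H771.KTools_m3
import Cfsg.Agent.H413.JOneSpec
import Cfsg.Agent.H713.Spor.JJ
import Cfsg.Agent.H710.VanCount
import Cfsg.Agent.H379.J2Spec
import Cfsg.Agent.KFacts.J2.Facts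
import Cfsg.Agent.CpAutJThree.Row
import Cfsg.Agent.H898.J3Cent
import Cfsg.Agent.H723.Spor.JFour
import Cfsg.Agent.H603.SporElim
import Cfsg.Agent.FastGrp
import Cfsg.Agent.Prune
set_option linter.all false

section
prune_inst 0x7fffbdfffffcffffffff7e7ffedddffdf9ba3fffe6dff9cbffe863ff3b9f6b8cc9c56bad8fe212fe1ef6e21c10787b13fffffeffea6ffc7ffffdfff41ffbffdfedf7b50871948c340fbc2ff783f0778e7f3fffffffffffffffffffffffffffbeffbfffffffff

-- part: H621/Zer/Main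
section
prune_inst 0x180000220000601000000200000000000000000100004000000001180000100000004000000000000000000000000000000000000000000000000080080000000000000000000000000000000000000000000000000000000000000
set_option linter.all false
open scoped Cfsg.Agent.FastGrp

-- part: H621/Zer/Frame
section
/-!
# Elements of `Omega` supported on a seven dimensional subspace (helper621, for S4895)

A quadratic space `(ι → F, Q)` with an isometric embedding `θ` of the seven dimensional space with the form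
`y₀ y₁ + y₂ y₃ + y₄ y₅ + y₆²`.  The elements of `Omega` of the form `1 + T M B`, `T` the matrix of `θ`, `B` the matrix of
`v ↦ (polar (θ e_i) v)_i`, `M` a `7 × 7` matrix with entries in a small ring.
-/

set_option autoImplicit false
set_option linter.unusedSectionVars false

namespace Cfsg.Agent.H621.Zer

open Matrix QuadraticMap Cfsg.Agent.ClassicalGeometry.Reflection

abbrev M7 (R : Type) := Matrix (Fin 7) (Fin 7) R

section Small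

variable {R : Type} [CommRing R]

/-- the quadratic form -/
def qq (y : Fin 7 → R) : R := y 0 * y 1 + y 2 * y 3 + y 4 * y 5 + y 6 * y 6

/-- its Gram matrix -/
def GG : M7 R :=
  !![0, 1, 0, 0, 0, 0, 0; 1, 0, 0, 0, 0, 0, 0; 0, 0, 0, 1, 0, 0, 0; 0, 0, 1, 0, 0, 0, 0;
    0, 0, 0, 0, 0, 1, 0; 0, 0, 0, 0, 1, 0, 0; 0, 0, 0, 0, 0, 0, 2]

/-- composition -/
def mm (M N : M7 R) : M7 R := M + N + M * GG * N

/-- a reflection -/
def Mr (a : Fin 7 → R) : M7 R := Matrix.of fun i j => -(qq a * (a i * a j))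

end Small

variable {F : Type} [Field F] {ι : Type} [Fintype ι] [DecidableEq ι]

/-- an isometric embedding of the seven dimensional space -/
structure Emb (Q : QuadraticForm F (ι → F)) where
  θ : (Fin 7 → F) →ₗ[F] (ι → F)
  inj : Function.Injective θ
  hq : ∀ y, Q (θ y) = qq y

namespace Emb

variable {Q : QuadraticForm F (ι → F)} (D : Emb Q)

/-- the matrix of the embedding -/
def T : Matrix ι (Fin 7) F := LinearMap.toMatrix' D.θ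

/-- the matrix of the functionals -/
def B : Matrix (Fin 7) ι F := Matrix.of fun i j => polar (⇑Q) (D.θ (Pi.single i 1)) (Pi.single j 1)

theorem T_mulVec (y : Fin 7 → F) : D.T *ᵥ y = D.θ y := by
  rw [T, LinearMap.toMatrix'_mulVec]

theorem B_mulVec (v : ι → F) (i : Fin 7) : (D.B *ᵥ v) i = polar (⇑Q) (D.θ (Pi.single i 1)) v := by
  have h : v = ∑ j, v j • (Pi.single j 1 : ι → F) := by
    funext k
    simp only [Finset.sum_apply, Pi.single_apply, _root_.Pi.smul_apply, _root_.smul_eq_mul, _root_.mul_ite, _root_.mul_one, _root_.MulZeroClass.mul_zero, _root_.Finset.sum_ite_eq, _root_.Finset.mem_univ, ↓ _root_.reduceIte]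
  conv_rhs => rw [h, ← polarBilin_apply_apply, map_sum]
  rw [Matrix.mulVec, dotProduct]
  refine Finset.sum_congr rfl fun j _ => ?_
  rw [map_smul, polarBilin_apply_apply, smul_eq_mul, mul_comm]
  rfl

theorem polar_theta (y : Fin 7 → F) (v : ι → F) : polar (⇑Q) (D.θ y) v = y ⬝ᵥ (D.B *ᵥ v) := by
  have h : y = ∑ j, y j • (Pi.single j 1 : Fin 7 → F) := by
    funext k
    simp [Finset.sum_apply, Pi.single_apply]
  conv_lhs => rw [h, ← polarBilin_apply_apply, map_sum, map_sum, LinearMap.sum_apply]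
  rw [dotProduct]
  refine Finset.sum_congr rfl fun j _ => ?_
  rw [map_smul, map_smul, LinearMap.smul_apply, polarBilin_apply_apply, smul_eq_mul, B_mulVec]

theorem polar_theta_theta (x y : Fin 7 → F) : polar (⇑Q) (D.θ x) (D.θ y) =
    x 0 * y 1 + x 1 * y 0 + (x 2 * y 3 + x 3 * y 2) + (x 4 * y 5 + x 5 * y 4) + 2 * (x 6 * y 6) := by
  rw [polar, ← map_add, D.hq, D.hq, D.hq]
  simp only [qq, Pi.add_apply]
  ring

theorem B_mul_T : D.B * D.T = GG := by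
  apply Matrix.mulVec_injective
  funext y
  rw [← Matrix.mulVec_mulVec, T_mulVec]
  funext i
  rw [B_mulVec, polar_theta_theta]
  (revert i; simp only [GG, Matrix.mulVec, dotProduct, Fin.sum_univ_succ, _root_.Fin.forall_fin_succ, Fin.isValue, _root_.Matrix.of_apply, _root_.Matrix.cons_val', _root_.Matrix.cons_val_fin_one, _root_.Matrix.cons_val_zero, _root_.Matrix.cons_val_succ, _root_.Fin.succ_zero_eq_one, _root_.Fin.succ_one_eq_two, Fin.reduceSucc, _root_.Finset.univ_unique, _root_.Fin.default_eq_zero, _root_.Finset.sum_singleton, _root_.Pi.single_eq_same, _root_.one_mul, _root_.ne_eq, _root_.one_ne_zero, _root_.not_false_eq_true, _root_.Pi.single_eq_of_ne, _root_.MulZeroClass.zero_mul, _root_.add_zero, Fin.reduceEq, _root_.MulZeroClass.mul_zero, _root_.zero_add, _root_.Fin.succ_ne_zero, _root_.Pi.single_eq_of_ne', _root_.IsEmpty.forall_iff, _root_.and_self])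

theorem exists_L : ∃ L : Matrix (Fin 7) ι F, L * D.T = 1 := by
  obtain ⟨f, hf⟩ := LinearMap.exists_leftInverse_of_injective D.θ (LinearMap.ker_eq_bot.2 D.inj)
  refine ⟨LinearMap.toMatrix' f, ?_⟩
  rw [T, ← LinearMap.toMatrix'_comp, hf, LinearMap.toMatrix'_id]

theorem exists_R (hQ : (polarBilin Q).Nondegenerate) : ∃ R : Matrix ι (Fin 7) F, D.B * R = 1 := by
  obtain ⟨L, hL⟩ := D.exists_L
  set P : Matrix ι ι F := LinearMap.BilinForm.toMatrix' (polarBilin Q) with hP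
  have hdet : IsUnit P.det := by
    rw [isUnit_iff_ne_zero]
    exact (LinearMap.BilinForm.nondegenerate_iff_det_ne_zero (Pi.basisFun F ι)).1 hQ
  have hB : D.B = D.Tᵀ * P := by
    ext i j
    rw [B, Matrix.of_apply, polar_theta]
    rw [Matrix.mul_apply]
    have h1 : ∀ k, D.Tᵀ i k * P k j = (D.θ (Pi.single i 1)) k * polar (⇑Q) (Pi.single k 1) (Pi.single j 1) := by
      intro k
      rw [hP, LinearMap.BilinForm.toMatrix'_apply, polarBilin_apply_apply]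
      rfl
    rw [Finset.sum_congr rfl fun k _ => h1 k]
    rw [single_one_dotProduct, B_mulVec]
    have h : D.θ (Pi.single i 1) = ∑ k, (D.θ (Pi.single i 1)) k • (Pi.single k 1 : ι → F) := by
      funext l
      simp only [Finset.sum_apply, Pi.single_apply, _root_.Pi.smul_apply, _root_.smul_eq_mul, _root_.mul_ite, _root_.mul_one, _root_.MulZeroClass.mul_zero, _root_.Finset.sum_ite_eq, _root_.Finset.mem_univ, ↓ _root_.reduceIte]
    conv_lhs => rw [h, ← polarBilin_apply_apply, map_sum, LinearMap.sum_apply]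
    refine Finset.sum_congr rfl fun k _ => ?_
    rw [map_smul, LinearMap.smul_apply, polarBilin_apply_apply, smul_eq_mul]
  refine ⟨P⁻¹ * Lᵀ, ?_⟩
  rw [hB, Matrix.mul_assoc, ← Matrix.mul_assoc P, Matrix.mul_nonsing_inv _ hdet, Matrix.one_mul,
    ← Matrix.transpose_mul, hL, Matrix.transpose_one]

/-- the matrix `1 + T M B` -/
def em (M : M7 F) : Matrix ι ι F := 1 + D.T * M * D.B

theorem em_mul (M N : M7 F) : D.em M * D.em N = D.em (mm M N) := by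
  have h : D.T * M * D.B * (D.T * N * D.B) = D.T * (M * GG * N) * D.B := by
    rw [← D.B_mul_T]
    simp only [Matrix.mul_assoc]
  simp only [em, mm, Matrix.mul_add, Matrix.add_mul, Matrix.one_mul, Matrix.mul_one, h]
  abel

theorem coe_refl (y : Fin 7 → F) (hy : Q (D.θ y) ≠ 0) (h1 : qq y * qq y = 1) :
    ((reflIso Q (D.θ y) hy : GL ι F) : Matrix ι ι F) = D.em (Mr y) := by
  apply Matrix.mulVec_injective
  funext x
  change ((reflIso Q (D.θ y) hy : GL ι F) : Matrix ι ι F) *ᵥ x = D.em (Mr y) *ᵥ x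
  rw [coe_reflIso, reflectionMatrix_mulVec, em, Matrix.add_mulVec, Matrix.one_mulVec, ← Matrix.mulVec_mulVec,
    ← Matrix.mulVec_mulVec, T_mulVec, D.hq, polar_theta]
  have h2 : (qq y)⁻¹ = qq y := inv_eq_of_mul_eq_one_right h1
  have h3 : (Mr y : M7 F) *ᵥ (D.B *ᵥ x) = -((qq y * (y ⬝ᵥ (D.B *ᵥ x))) • y) := by
    funext i
    rw [Matrix.mulVec, dotProduct, Pi.neg_apply, Pi.smul_apply, smul_eq_mul, dotProduct, Finset.mul_sum,
      Finset.sum_mul, ← Finset.sum_neg_distrib]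
    refine Finset.sum_congr rfl fun j _ => ?_
    simp only [Mr, Matrix.of_apply]
    ring
  rw [h2, h3, map_neg, map_smul, sub_eq_add_neg]

end Emb

end Cfsg.Agent.H621.Zer
end

-- part: H621/Zer/Good
section
/-!
# Elements of `Omega` given by small matrices: ranks, `p`-singularity, conjugacy (helper621, for S4895)
-/

set_option autoImplicit false
set_option linter.unusedSectionVars false

namespace Cfsg.Agent.H621.Zer

open Matrix QuadraticMap Cfsg.Agent.ClassicalGeometry.Reflection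

variable {F : Type} [Field F] {ι : Type} [Fintype ι] [DecidableEq ι] {R : Type} [CommRing R] (φ : R →+* F)

theorem GG_map : (GG : M7 R).map φ = GG := by
  ext i j
  (revert i j; simp only [GG, map_ofNat, _root_.Fin.forall_fin_succ, _root_.Matrix.map_apply, _root_.Matrix.of_apply, _root_.Matrix.cons_val', _root_.Matrix.cons_val_fin_one, Fin.isValue, _root_.Matrix.cons_val_zero, _root_.Matrix.cons_val_succ, _root_.forall_const, _root_.map_zero, _root_.map_one, _root_.and_self, _root_.and_self_left, _root_.implies_true])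

theorem mm_map (M N : M7 R) : (mm M N).map φ = mm (M.map φ) (N.map φ) := by
  have h : ∀ X : M7 R, X.map φ = φ.mapMatrix X := fun _ => rfl
  rw [mm, mm, h, map_add, map_add, map_mul, map_mul, ← h, ← h, ← h, GG_map]

theorem qq_map (a : Fin 7 → R) : φ (qq a) = qq (φ ∘ a) := by
  simp only [qq, _root_.Fin.isValue, _root_.map_add, _root_.map_mul, _root_.Function.comp_apply]

theorem Mr_map (a : Fin 7 → R) : (Mr a).map φ = Mr (φ ∘ a) := by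
  ext i j
  simp only [Mr, Matrix.map_apply, Matrix.of_apply, map_neg, map_mul, qq_map, Function.comp]

namespace Emb

variable {Q : QuadraticForm F (ι → F)} (D : Emb Q)

/-- the element `1 + T M B` lies in `Omega` -/
def Good (M : M7 R) : Prop := ∃ g : Cfsg.Omega F (⇑Q),
  (((g : Cfsg.isometryGroup F (⇑Q)) : GL ι F) : Matrix ι ι F) = D.em (M.map φ)

theorem Good.mul {M N : M7 R} (hM : D.Good φ M) (hN : D.Good φ N) : D.Good φ (mm M N) := by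
  obtain ⟨g, hg⟩ := hM
  obtain ⟨h, hh⟩ := hN
  refine ⟨g * h, ?_⟩
  rw [mm_map, ← D.em_mul, ← hg, ← hh]
  rfl

theorem good_pair (hP : ∀ (u v : ι → F) (hu : Q u ≠ 0) (hv : Q v ≠ 0), Q u = Q v →
      reflIso Q u hu * reflIso Q v hv ∈ Cfsg.Omega F (⇑Q))
    (a b : Fin 7 → R) (h1 : qq a * qq a = 1) (h2 : qq b = qq a) : D.Good φ (mm (Mr a) (Mr b)) := by
  have ha : (qq (φ ∘ a) : F) * qq (φ ∘ a) = 1 := by rw [← qq_map, ← map_mul, h1, map_one]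
  have hb : (qq (φ ∘ b) : F) = qq (φ ∘ a) := by rw [← qq_map, ← qq_map, h2]
  have hu : Q (D.θ (φ ∘ a)) ≠ 0 := by rw [D.hq]; exact left_ne_zero_of_mul_eq_one ha
  have hv : Q (D.θ (φ ∘ b)) ≠ 0 := by rw [D.hq, hb]; exact left_ne_zero_of_mul_eq_one ha
  refine ⟨⟨_, hP _ _ hu hv (by rw [D.hq, D.hq, hb])⟩, ?_⟩
  rw [mm_map, ← D.em_mul, Mr_map, Mr_map, ← D.coe_refl _ hu ha, ← D.coe_refl _ hv (by rw [hb]; exact ha)]
  rfl

/-- the odd characteristic case of the hypothesis of `good_pair` -/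
theorem pair_odd (h2 : (2 : F) ≠ 0) (Q : QuadraticForm F (ι → F)) (u v : ι → F) (hu : Q u ≠ 0) (hv : Q v ≠ 0)
    (h : Q u = Q v) : reflIso Q u hu * reflIso Q v hv ∈ Cfsg.Omega F (⇑Q) := by
  have h1 := Cfsg.Agent.ClassicalGeometry.OmegaIndex.abelianization_of_reflIso_eq h2 Q hu hv ⟨Q u, by rw [h]⟩
  refine (QuotientGroup.eq_one_iff _).1 ?_
  change Abelianization.of (reflIso Q u hu * reflIso Q v hv) = 1
  rw [map_mul, h1, ← map_mul, reflIso_mul_self, map_one]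

/-- the rank of `T N B` -/
theorem rank_eq (hQ : (polarBilin Q).Nondegenerate) (N : M7 F) : (D.T * N * D.B).rank = N.rank := by
  obtain ⟨L, hL⟩ := D.exists_L
  obtain ⟨S, hS⟩ := D.exists_R hQ
  apply le_antisymm
  · exact (rank_mul_le_left _ _).trans (rank_mul_le_right _ _)
  · have h : N = L * (D.T * N * D.B) * S := by
      rw [Matrix.mul_assoc D.T, ← Matrix.mul_assoc L, hL, Matrix.one_mul, Matrix.mul_assoc, hS, Matrix.mul_one]
    conv_lhs => rw [h]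
    exact (rank_mul_le_left _ _).trans (rank_mul_le_right _ _)

theorem em_sub_one (M : M7 F) : D.em M - 1 = D.T * M * D.B := by
  rw [em, add_sub_cancel_left]

theorem TB_mul (M N : M7 F) : (D.T * M * D.B) * (D.T * N * D.B) = D.T * (M * GG * N) * D.B := by
  rw [← D.B_mul_T]
  simp only [Matrix.mul_assoc]

end Emb

/-! ### Rank certificates -/

theorem rank_of_cert {r : ℕ} {N : M7 R} (X : Matrix (Fin 7) (Fin r) R) (Y : Matrix (Fin r) (Fin 7) R)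
    (L : Matrix (Fin r) (Fin 7) R) (S : Matrix (Fin 7) (Fin r) R) {a b c : R} (ha : φ a ≠ 0) (hb : φ b ≠ 0)
    (hc : φ c ≠ 0) (h1 : X * Y = c • N) (h2 : L * X = a • (1 : Matrix (Fin r) (Fin r) R))
    (h3 : Y * S = b • (1 : Matrix (Fin r) (Fin r) R)) : (N.map φ).rank = r := by
  have m : ∀ {α β γ : Type} [Fintype β] (U : Matrix α β R) (V : Matrix β γ R), (U * V).map φ = U.map φ * V.map φ :=
    fun U V => Matrix.map_mul
  have e1 : X.map φ * Y.map φ = φ c • N.map φ := by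
    rw [← m, h1]
    ext i j
    simp
  have e2 : L.map φ * X.map φ = φ a • (1 : Matrix (Fin r) (Fin r) F) := by
    rw [← m, h2]
    ext i j
    by_cases hij : i = j
    · subst hij; simp
    · simp [Matrix.one_apply_ne hij]
  have e3 : Y.map φ * S.map φ = φ b • (1 : Matrix (Fin r) (Fin r) F) := by
    rw [← m, h3]
    ext i j
    by_cases hij : i = j
    · subst hij; simp
    · simp [Matrix.one_apply_ne hij]
  have e4 : N.map φ = (φ c)⁻¹ • (X.map φ * Y.map φ) := by rw [e1, smul_smul, inv_mul_cancel₀ hc, one_smul]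
  apply le_antisymm
  · rw [e4, ← Matrix.smul_mul]
    have e8 := rank_mul_le_left ((φ c)⁻¹ • X.map φ) (Y.map φ)
    have e9 := rank_le_card_width ((φ c)⁻¹ • X.map φ)
    rw [Fintype.card_fin] at e9
    exact e8.trans e9
  · have e5 : (φ a * φ b) • (1 : Matrix (Fin r) (Fin r) F) = L.map φ * (φ c • N.map φ) * S.map φ := by
      rw [← e1, ← Matrix.mul_assoc, e2, Matrix.smul_mul, Matrix.one_mul, Matrix.smul_mul, e3, smul_smul]
    have e6 : (1 : Matrix (Fin r) (Fin r) F) = ((φ a * φ b)⁻¹ • L.map φ) * (φ c • N.map φ) * S.map φ := by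
      rw [Matrix.smul_mul, Matrix.smul_mul, ← e5, smul_smul, inv_mul_cancel₀ (mul_ne_zero ha hb), one_smul]
    have e7 : (1 : Matrix (Fin r) (Fin r) F).rank ≤ (N.map φ).rank := by
      rw [e6]
      have f1 := rank_mul_le_left (((φ a * φ b)⁻¹ • L.map φ) * (φ c • N.map φ)) (S.map φ)
      have f2 := rank_mul_le_right ((φ a * φ b)⁻¹ • L.map φ) (φ c • N.map φ)
      have f3 : (φ c • N.map φ).rank ≤ (N.map φ).rank := by
        have f4 := rank_mul_le_right (φ c • (1 : M7 F)) (N.map φ)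
        rwa [Matrix.smul_mul, Matrix.one_mul] at f4
      exact f1.trans (f2.trans f3)
    rwa [rank_one, Fintype.card_fin] at e7

/-! ### `p`-singular elements -/

section Sing

variable {Q : QuadraticForm F (ι → F)} (D : Emb Q)

theorem pow_mulVec_of {X : Matrix ι ι F} {v w : ι → F} (h1 : X *ᵥ v = v + w) (h2 : X *ᵥ w = w) (k : ℕ) :
    (X ^ k) *ᵥ v = v + (k : F) • w ∧ (X ^ k) *ᵥ w = w := by
  induction k with
  | zero => simp only [_root_.pow_zero, _root_.Matrix.one_mulVec, _root_.Nat.cast_zero, _root_.zero_smul, _root_.add_zero, _root_.and_self]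
  | succ k ih =>
    rw [pow_succ', ← Matrix.mulVec_mulVec, ← Matrix.mulVec_mulVec, ih.1, ih.2, Matrix.mulVec_add, Matrix.mulVec_smul,
      h1, h2]
    refine ⟨?_, rfl⟩
    rw [Nat.cast_succ, add_smul, one_smul]
    abel

seal _root_.Finset.sum _root_.dotProduct in
theorem dvd_orderOf {p : ℕ} [CharP F p] (hQ : (polarBilin Q).Nondegenerate) (hn : 3 ≤ Fintype.card ι)
    (hs : ∃ u : ι → F, u ≠ 0 ∧ Q u = 0) {M : M7 R} (β : Fin 7 → R) (h0 : M *ᵥ (GG *ᵥ (M *ᵥ β)) = 0) (k : Fin 7)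
    (hk : φ ((M *ᵥ β) k) ≠ 0) (g : Cfsg.Omega F (⇑Q))
    (hg : (((g : Cfsg.isometryGroup F (⇑Q)) : GL ι F) : Matrix ι ι F) = D.em (M.map φ)) :
    p ∣ orderOf (QuotientGroup.mk g : Cfsg.POmega F (⇑Q)) := by
  obtain ⟨S, hS⟩ := D.exists_R hQ
  set v : ι → F := S *ᵥ (φ ∘ β) with hv
  set w : ι → F := D.T *ᵥ (φ ∘ (M *ᵥ β)) with hw
  have hm : ∀ (N : M7 R) (x : Fin 7 → R), (N.map φ) *ᵥ (φ ∘ x) = φ ∘ (N *ᵥ x) := fun N x => by
    funext i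
    exact (RingHom.map_mulVec φ N x i).symm
  have h1 : D.em (M.map φ) *ᵥ v = v + w := by
    rw [Emb.em, Matrix.add_mulVec, Matrix.one_mulVec, hv, ← Matrix.mulVec_mulVec, ← Matrix.mulVec_mulVec,
      Matrix.mulVec_mulVec _ D.B S, hS, Matrix.one_mulVec, hm]
  have h2 : D.em (M.map φ) *ᵥ w = w := by
    rw [Emb.em, Matrix.add_mulVec, Matrix.one_mulVec, hw, ← Matrix.mulVec_mulVec, ← Matrix.mulVec_mulVec,
      Matrix.mulVec_mulVec _ D.B D.T, D.B_mul_T, ← GG_map φ, hm, hm, h0]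
    have : (φ ∘ (0 : Fin 7 → R)) = 0 := by funext i; simp
    rw [this, Matrix.mulVec_zero, add_zero]
  have hw0 : w ≠ 0 := by
    intro h
    apply hk
    have h3 : D.θ (φ ∘ (M *ᵥ β)) = 0 := by rw [← D.T_mulVec]; exact h
    have h4 : φ ∘ (M *ᵥ β) = 0 := D.inj (by rw [h3, map_zero])
    exact congrFun h4 k
  set m := orderOf (QuotientGroup.mk g : Cfsg.POmega F (⇑Q)) with hm'
  have h3 : (QuotientGroup.mk (g ^ m) : Cfsg.POmega F (⇑Q)) = 1 := by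
    rw [QuotientGroup.mk_pow]
    exact pow_orderOf_eq_one _
  have h4 := (Cfsg.Agent.LieClassical.OrthCenter.mem_center_omega_iff hQ hn hs _).1 ((QuotientGroup.eq_one_iff _).1 h3)
  have h5 : ((((g ^ m : Cfsg.Omega F (⇑Q)) : Cfsg.isometryGroup F (⇑Q)) : GL ι F) : Matrix ι ι F) =
      D.em (M.map φ) ^ m := by
    rw [← hg]
    rfl
  rw [h5] at h4
  obtain ⟨h6, h7⟩ := pow_mulVec_of h1 h2 m
  have h8 : D.em (M.map φ) ^ m = 1 := by
    rcases h4 with h4 | h4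
    · exact h4
    · rw [h4, Matrix.neg_mulVec, Matrix.one_mulVec] at h7
      have h9 : (2 : F) • w = 0 := by
        rw [two_smul]
        nth_rewrite 1 [← h7]
        exact neg_add_cancel w
      have h10 : (2 : F) = 0 := (smul_eq_zero.1 h9).resolve_right hw0
      rw [h4]
      have h11 : (-1 : F) = 1 := by linear_combination -h10
      rw [← one_smul F (1 : Matrix ι ι F), ← neg_smul, h11]
  rw [h8, Matrix.one_mulVec] at h6
  have h9 : (m : F) • w = 0 := by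
    have := congrArg (fun z => z - v) h6
    simp only [sub_self, add_sub_cancel_left] at this
    exact this.symm
  exact (CharP.cast_eq_zero_iff F p m).1 ((smul_eq_zero.1 h9).resolve_right hw0)

end Sing

/-! ### Conjugacy -/

section Conj

variable {Q : QuadraticForm F (ι → F)}

abbrev co (g : Cfsg.Omega F (⇑Q)) : Matrix ι ι F := (((g : Cfsg.isometryGroup F (⇑Q)) : GL ι F) : Matrix ι ι F)

seal _root_.Finset.sum _root_.dotProduct in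
theorem conj_of_isConj (hQ : (polarBilin Q).Nondegenerate) (hn : 3 ≤ Fintype.card ι)
    (hs : ∃ u : ι → F, u ≠ 0 ∧ Q u = 0) {g h : Cfsg.Omega F (⇑Q)}
    (hc : IsConj (QuotientGroup.mk g : Cfsg.POmega F (⇑Q)) (QuotientGroup.mk h)) :
    ∃ P P' : Matrix ι ι F, P * P' = 1 ∧ P' * P = 1 ∧ (co h = P * co g * P' ∨ co h = -(P * co g * P')) := by
  obtain ⟨c, hc⟩ := isConj_iff.1 hc
  obtain ⟨c, rfl⟩ := QuotientGroup.mk_surjective c
  have h1 : (QuotientGroup.mk ((c * g * c⁻¹)⁻¹ * h) : Cfsg.POmega F (⇑Q)) = 1 := by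
    rw [QuotientGroup.mk_mul, ← hc]
    exact inv_mul_cancel (QuotientGroup.mk (c * g * c⁻¹) : Cfsg.POmega F (⇑Q))
  have h2 := (Cfsg.Agent.LieClassical.OrthCenter.mem_center_omega_iff hQ hn hs _).1 ((QuotientGroup.eq_one_iff _).1 h1)
  have h3 : co h = co (c * g * c⁻¹) * co ((c * g * c⁻¹)⁻¹ * h) := by
    have : h = (c * g * c⁻¹) * ((c * g * c⁻¹)⁻¹ * h) := by group
    conv_lhs => rw [this]
    rfl
  have h4 : co (c * g * c⁻¹) = co c * co g * co c⁻¹ := rfl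
  refine ⟨co c, co c⁻¹, ?_, ?_, ?_⟩
  · have : co c * co c⁻¹ = co (c * c⁻¹) := rfl
    rw [this, mul_inv_cancel]
    rfl
  · have : co c⁻¹ * co c = co (c⁻¹ * c) := rfl
    rw [this, inv_mul_cancel]
    rfl
  · rcases h2 with h2 | h2
    · left
      rw [h3, h4]
      rw [show co ((c * g * c⁻¹)⁻¹ * h) = 1 from h2, mul_one]
    · right
      rw [h3, h4]
      rw [show co ((c * g * c⁻¹)⁻¹ * h) = -1 from h2, mul_neg, mul_one]

theorem rank_conj {P P' : Matrix ι ι F} (h2 : P' * P = 1) (X : Matrix ι ι F) :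
    (P * X * P').rank = X.rank := by
  apply le_antisymm
  · exact (rank_mul_le_left _ _).trans (rank_mul_le_right _ _)
  · have h : X = P' * (P * X * P') * P := by
      simp only [Matrix.mul_assoc, h2, Matrix.mul_one]
      rw [← Matrix.mul_assoc, h2, Matrix.one_mul]
    conv_lhs => rw [h]
    exact (rank_mul_le_left _ _).trans (rank_mul_le_right _ _)

theorem conj_mul {P P' : Matrix ι ι F} (h2 : P' * P = 1) (X Y : Matrix ι ι F) :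
    (P * X * P') * (P * Y * P') = P * (X * Y) * P' := by
  calc (P * X * P') * (P * Y * P') = P * X * (P' * P) * Y * P' := by simp only [Matrix.mul_assoc]
    _ = _ := by rw [h2, Matrix.mul_one]; simp only [Matrix.mul_assoc]

theorem conj_sub_one {P P' : Matrix ι ι F} (h1 : P * P' = 1) (X : Matrix ι ι F) :
    P * X * P' - 1 = P * (X - 1) * P' := by
  rw [Matrix.mul_sub, Matrix.sub_mul, Matrix.mul_one, h1]

theorem conj_pow {P P' : Matrix ι ι F} (h1 : P * P' = 1) (h2 : P' * P = 1) (X : Matrix ι ι F) (k : ℕ) :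
    (P * X * P') ^ k = P * X ^ k * P' := by
  induction k with
  | zero => rw [pow_zero, pow_zero, Matrix.mul_one, h1]
  | succ k ih => rw [pow_succ, ih, conj_mul h2, pow_succ]

end Conj

/-- nine elements distinguished by invariants -/
theorem big_of_inv {G : Type} [Group G] [Finite G] [IsSimpleGroup G] {p : ℕ} (hp : p.Prime)
    (hL : Cfsg.IsLieTypeChar p G) {α : Type*} (g : Fin 9 → G) (I : Fin 9 → α) (hI : Function.Injective I)
    (hc : ∀ i j, IsConj (g i) (g j) → I i = I j) (hs : ∀ i, p ∣ orderOf (g i)) :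
    Cfsg.Agent.H504.Zeros.Big G := by
  classical
  have hinj : Function.Injective g := fun i j h => hI (hc i j (by rw [h]))
  refine Cfsg.Agent.H504.Zeros.big_of_lie hp hL (Finset.univ.image g) ?_ ?_ ?_
  · intro a ha b hb hab
    obtain ⟨i, -, rfl⟩ := Finset.mem_image.1 ha
    obtain ⟨j, -, rfl⟩ := Finset.mem_image.1 hb
    rw [hI (hc i j hab)]
  · intro a ha
    obtain ⟨i, -, rfl⟩ := Finset.mem_image.1 ha
    exact hs i
  · rw [Finset.card_image_of_injective _ hinj, Finset.card_univ, Fintype.card_fin]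

end Cfsg.Agent.H621.Zer
end

-- part: H621/Zer/Odd
section
/-!
# Nine classes in odd characteristic (helper621, for S4895)
-/

set_option autoImplicit false
set_option linter.unusedSectionVars false

namespace Cfsg.Agent.H621.Zer

open Matrix QuadraticMap Cfsg.Agent.ClassicalGeometry.Reflection

variable {F : Type} [Field F] {ι : Type} [Fintype ι] [DecidableEq ι] {Q : QuadraticForm F (ι → F)}

/-- an element with the given invariants -/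
def OddEl (Q : QuadraticForm F (ι → F)) (p : ℕ) (t : ℕ × ℕ × Bool) : Prop :=
  ∃ g : Cfsg.Omega F (⇑Q), p ∣ orderOf (QuotientGroup.mk g : Cfsg.POmega F (⇑Q)) ∧
    (co g * co g - 1).rank = t.1 ∧ ((co g * co g - 1) * (co g * co g - 1)).rank = t.2.1 ∧
    (t.2.2 = true → (co g - 1) ^ 8 = 0) ∧
    (t.2.2 = false → (∃ v : ι → F, v ≠ 0 ∧ co g *ᵥ v = v) ∧ ∃ v : ι → F, v ≠ 0 ∧ co g *ᵥ v = -v)

theorem pow_mulVec_smul {X : Matrix ι ι F} {v : ι → F} {c : F} (h : X *ᵥ v = c • v) (k : ℕ) :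
    (X ^ k) *ᵥ v = (c ^ k) • v := by
  induction k with
  | zero => simp
  | succ k ih => rw [pow_succ, ← Matrix.mulVec_mulVec, h, Matrix.mulVec_smul, ih, smul_smul, pow_succ']

theorem not_nil {X : Matrix ι ι F} {v : ι → F} {c : F} (hc : c ≠ 0) (hv : v ≠ 0) (h : X *ᵥ v = c • v) {k : ℕ}
    (hX : X ^ k = 0) : False := by
  have h1 := pow_mulVec_smul h k
  rw [hX, Matrix.zero_mulVec] at h1
  exact (smul_ne_zero (pow_ne_zero k hc) hv) h1.symm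

theorem odd_distinct (h2 : (2 : F) ≠ 0) (hQ : (polarBilin Q).Nondegenerate) (hn : 3 ≤ Fintype.card ι)
    (hs : ∃ u : ι → F, u ≠ 0 ∧ Q u = 0) {g h : Cfsg.Omega F (⇑Q)} {s t : ℕ × ℕ × Bool}
    (hg1 : (co g * co g - 1).rank = s.1) (hg2 : ((co g * co g - 1) * (co g * co g - 1)).rank = s.2.1)
    (hg3 : s.2.2 = true → (co g - 1) ^ 8 = 0)
    (hg4 : s.2.2 = false → (∃ v : ι → F, v ≠ 0 ∧ co g *ᵥ v = v) ∧ ∃ v : ι → F, v ≠ 0 ∧ co g *ᵥ v = -v)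
    (hh1 : (co h * co h - 1).rank = t.1) (hh2 : ((co h * co h - 1) * (co h * co h - 1)).rank = t.2.1)
    (hh3 : t.2.2 = true → (co h - 1) ^ 8 = 0)
    (hh4 : t.2.2 = false → (∃ v : ι → F, v ≠ 0 ∧ co h *ᵥ v = v) ∧ ∃ v : ι → F, v ≠ 0 ∧ co h *ᵥ v = -v)
    (hc : IsConj (QuotientGroup.mk g : Cfsg.POmega F (⇑Q)) (QuotientGroup.mk h)) : s = t := by
  obtain ⟨P, P', e1, e2, e3⟩ := conj_of_isConj hQ hn hs hc
  have h4 : co h * co h - 1 = P * (co g * co g - 1) * P' := by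
    rw [← conj_sub_one e1, ← conj_mul e2]
    rcases e3 with e3 | e3 <;> rw [e3]
    rw [neg_mul_neg]
  have a1 : s.1 = t.1 := by rw [← hg1, ← hh1, h4, rank_conj e2]
  have a2 : s.2.1 = t.2.1 := by rw [← hg2, ← hh2, h4, conj_mul e2, rank_conj e2]
  have h22 : (-2 : F) ≠ 0 := neg_ne_zero.2 h2
  -- the unipotent side
  have key : ∀ x y : Cfsg.Omega F (⇑Q), (co x - 1) ^ 8 = 0 →
      ((∃ v : ι → F, v ≠ 0 ∧ co y *ᵥ v = v) ∧ ∃ v : ι → F, v ≠ 0 ∧ co y *ᵥ v = -v) →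
      (∃ P P' : Matrix ι ι F, P * P' = 1 ∧ P' * P = 1 ∧ (co y = P * co x * P' ∨ co y = -(P * co x * P'))) → False := by
    rintro x y hx ⟨⟨v, hv, hv1⟩, w, hw, hw1⟩ ⟨P, P', f1, f2, f3⟩
    rcases f3 with f3 | f3
    · have f4 : (co y - 1) ^ 8 = 0 := by
        rw [f3, conj_sub_one f1, conj_pow f1 f2, hx, Matrix.mul_zero, Matrix.zero_mul]
      refine not_nil h22 hw (X := co y - 1) ?_ f4
      rw [Matrix.sub_mulVec, hw1, Matrix.one_mulVec, neg_smul, two_smul]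
      abel
    · have f4 : (co y + 1) ^ 8 = 0 := by
        have f5 : co y + 1 = -(P * (co x - 1) * P') := by
          rw [← conj_sub_one f1, f3]
          abel
        rw [f5, Even.neg_pow ⟨4, rfl⟩, conj_pow f1 f2, hx, Matrix.mul_zero, Matrix.zero_mul]
      refine not_nil h2 hv (X := co y + 1) ?_ f4
      rw [Matrix.add_mulVec, hv1, Matrix.one_mulVec, two_smul]
  have a3 : s.2.2 = t.2.2 := by
    rcases hs2 : s.2.2 with _ | _ <;> rcases ht2 : t.2.2 with _ | _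
    · rfl
    · exfalso
      refine key h g (hh3 ht2) (hg4 hs2) ⟨P', P, e2, e1, ?_⟩
      have e4 : P' * (P * co g * P') * P = co g := by
        simp only [Matrix.mul_assoc, e2, Matrix.mul_one]
        rw [← Matrix.mul_assoc, e2, Matrix.one_mul]
      rcases e3 with e3 | e3
      · left; rw [e3, e4]
      · right; rw [e3, Matrix.mul_neg, Matrix.neg_mul, e4, neg_neg]
    · exact absurd (key g h (hg3 hs2) (hh4 ht2) ⟨P, P', e1, e2, e3⟩) id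
    · rfl
  exact Prod.ext a1 (Prod.ext a2 a3)

theorem big_odd_of {p : ℕ} (hp : p.Prime) (h2 : (2 : F) ≠ 0) (hQ : (polarBilin Q).Nondegenerate)
    (hn : 3 ≤ Fintype.card ι) (hs : ∃ u : ι → F, u ≠ 0 ∧ Q u = 0) [Finite (Cfsg.POmega F (⇑Q))]
    [IsSimpleGroup (Cfsg.POmega F (⇑Q))] (hL : Cfsg.IsLieTypeChar p (Cfsg.POmega F (⇑Q)))
    (t : Fin 9 → ℕ × ℕ × Bool) (ht : Function.Injective t) (h : ∀ i, OddEl Q p (t i)) :
    Cfsg.Agent.H504.Zeros.Big (Cfsg.POmega F (⇑Q)) := by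
  choose g h0 h1 h2' h3 h4 using h
  exact big_of_inv hp hL (fun i => (QuotientGroup.mk (g i) : Cfsg.POmega F (⇑Q))) t ht
    (fun i j hc => odd_distinct h2 hQ hn hs (h1 i) (h2' i) (h3 i) (h4 i) (h1 j) (h2' j) (h3 j) (h4 j) hc) h0

/-! ### Integer data -/

section Data

variable (D : Emb Q)

local notation "φz" => Int.castRingHom F

theorem two_pow_ne {a : ℤ} (h2 : (2 : F) ≠ 0) (k : ℕ) (ha : a = 2 ^ k) : (Int.castRingHom F) a ≠ 0 := by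
  rw [ha, map_pow]
  exact pow_ne_zero _ (by simpa only [_root_.eq_intCast, _root_.Int.cast_ofNat, _root_.ne_eq] using h2)

theorem theta_ne (y : Fin 7 → ℤ) (k : Fin 7) (hk : y k = 1) : D.θ ((Int.castRingHom F) ∘ y) ≠ 0 := by
  intro h
  have h1 : (Int.castRingHom F) ∘ y = 0 := D.inj (by rw [h, map_zero])
  have h3 := congrFun h1 k
  simp only [Function.comp, hk, map_one, Pi.zero_apply, one_ne_zero] at h3

theorem em_mulVec_theta (M : M7 ℤ) (y : Fin 7 → ℤ) (c : ℤ) (h : M *ᵥ (GG *ᵥ y) = c • y) :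
    D.em (M.map (Int.castRingHom F)) *ᵥ (D.θ ((Int.castRingHom F) ∘ y)) =
      (1 + (c : F)) • D.θ ((Int.castRingHom F) ∘ y) := by
  have hm : ∀ (N : M7 ℤ) (x : Fin 7 → ℤ), (N.map (Int.castRingHom F)) *ᵥ ((Int.castRingHom F) ∘ x) =
      (Int.castRingHom F) ∘ (N *ᵥ x) := fun N x => by
    funext i
    exact (RingHom.map_mulVec (Int.castRingHom F) N x i).symm
  rw [Emb.em, Matrix.add_mulVec, Matrix.one_mulVec, ← Matrix.mulVec_mulVec, ← Matrix.mulVec_mulVec, ← D.T_mulVec,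
    Matrix.mulVec_mulVec _ D.B D.T, D.B_mul_T, ← GG_map (Int.castRingHom F), hm, hm, h]
  have h1 : (Int.castRingHom F) ∘ (c • y) = (c : F) • ((Int.castRingHom F) ∘ y) := by
    funext i
    simp
  rw [h1, Matrix.mulVec_smul, add_smul, one_smul]

theorem oddEl_of {p : ℕ} [CharP F p] (hQ : (polarBilin Q).Nondegenerate) (hn : 3 ≤ Fintype.card ι)
    (hs : ∃ u : ι → F, u ≠ 0 ∧ Q u = 0) {t : ℕ × ℕ × Bool} (M : M7 ℤ) (hM : D.Good (Int.castRingHom F) M)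
    (hr1 : ((mm M M).map (Int.castRingHom F)).rank = t.1)
    (hr2 : ((mm M M * GG * mm M M).map (Int.castRingHom F)).rank = t.2.1)
    (β : Fin 7 → ℤ) (h0 : M *ᵥ (GG *ᵥ (M *ᵥ β)) = 0) (k : Fin 7) (hk : (Int.castRingHom F) ((M *ᵥ β) k) ≠ 0)
    (hu : t.2.2 = true → ((M * GG * M) * GG * (M * GG * M)) * GG * ((M * GG * M) * GG * (M * GG * M)) = 0)
    (hu' : t.2.2 = false → M *ᵥ (GG *ᵥ ![0, 0, 0, 0, 1, 0, 0]) = 0 ∧
      M *ᵥ (GG *ᵥ ![1, 0, 0, 0, 0, 0, 0]) = (-2 : ℤ) • ![1, 0, 0, 0, 0, 0, 0]) :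
    OddEl Q p t := by
  obtain ⟨g, hg⟩ := hM
  have hX : co g = D.em (M.map (Int.castRingHom F)) := hg
  have m : ∀ (U V : M7 ℤ), (U * V).map (Int.castRingHom F) = U.map (Int.castRingHom F) * V.map (Int.castRingHom F) :=
    fun U V => Matrix.map_mul
  have e1 : co g * co g - 1 = D.T * ((mm M M).map (Int.castRingHom F)) * D.B := by
    rw [hX, D.em_mul, D.em_sub_one, mm_map]
  refine ⟨g, dvd_orderOf (Int.castRingHom F) D hQ hn hs β h0 k hk g hg, ?_, ?_, ?_, ?_⟩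
  · rw [e1, D.rank_eq hQ, hr1]
  · rw [e1, D.TB_mul, D.rank_eq hQ, ← hr2, m, m, GG_map]
  · intro h
    have h1 := hu h
    have e2 : co g - 1 = D.T * (M.map (Int.castRingHom F)) * D.B := by rw [hX, D.em_sub_one]
    have e3 : (co g - 1) ^ 8 = (((co g - 1) * (co g - 1)) * ((co g - 1) * (co g - 1))) *
        (((co g - 1) * (co g - 1)) * ((co g - 1) * (co g - 1))) := by
      rw [← pow_two, ← pow_two, ← pow_two, ← pow_mul, ← pow_mul]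
    rw [e3, e2, D.TB_mul, D.TB_mul, D.TB_mul]
    have e4 := congrArg (fun N : M7 ℤ => N.map (Int.castRingHom F)) h1
    simp only [m, GG_map] at e4
    rw [e4]
    have e5 : ((0 : M7 ℤ).map (Int.castRingHom F)) = 0 := by ext i j; simp
    rw [e5, Matrix.mul_zero, Matrix.zero_mul]
  · intro h
    obtain ⟨h1, h3⟩ := hu' h
    refine ⟨⟨D.θ ((Int.castRingHom F) ∘ ![0, 0, 0, 0, 1, 0, 0]), theta_ne D _ 4 rfl, ?_⟩,
      ⟨D.θ ((Int.castRingHom F) ∘ ![1, 0, 0, 0, 0, 0, 0]), theta_ne D _ 0 rfl, ?_⟩⟩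
    · rw [hX, em_mulVec_theta D M _ 0 (by rw [h1, zero_smul]), Int.cast_zero, add_zero, one_smul]
    · rw [hX, em_mulVec_theta D M _ (-2) h3]
      have : (1 + ((-2 : ℤ) : F)) = -1 := by push_cast; ring
      rw [this, neg_smul, one_smul]

end Data

/-! ### The nine elements -/

section Elements

variable (D : Emb Q) (h2 : (2 : F) ≠ 0)

theorem rank_zero_of {R : Type} [CommRing R] (φ : R →+* F) {N : M7 R} (h : N = 0) : (N.map φ).rank = 0 := by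
  have h1 : (N.map φ) = 0 := by rw [h]; ext i j; simp
  rw [h1, Matrix.rank_zero]

include h2 in
theorem gp (a b : Fin 7 → ℤ) (h1 : qq a * qq a = 1) (h3 : qq b = qq a) :
    D.Good (Int.castRingHom F) (mm (Mr a) (Mr b)) :=
  D.good_pair (Int.castRingHom F) (Emb.pair_odd h2 Q) a b h1 h3

def Bu2 : M7 ℤ := !![0, 0, 0, 0, 0, 0, 0; 0, 0, 0, 0, 0, 0, 0; 0, 0, 0, 0, 0, 0, 0; 0, 0, 0, 0, 0, 0, 0; 0, 0, 0, 0, -1, 0, -1; 0, 0, 0, 0, 0, 0, 0; 0, 0, 0, 0, 1, 0, 0]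

include h2 in
theorem Bu2_good : D.Good (Int.castRingHom F) Bu2 := by
  have h : Bu2 = (mm (Mr ![0, 0, 0, 0, 0, 0, 1]) (Mr ![0, 0, 0, 0, 1, 0, 1])) := by decide +kernel
  rw [h]
  exact (gp D h2 ![0, 0, 0, 0, 0, 0, 1] ![0, 0, 0, 0, 1, 0, 1] (by decide) (by decide))

def Bu1 : M7 ℤ := !![0, 0, -1, 0, 0, 0, 0; 0, 0, 0, 0, 0, 0, 0; 1, 0, 0, 0, 0, 0, 0; 0, 0, 0, 0, 0, 0, 0; 0, 0, 0, 0, 0, 0, 0; 0, 0, 0, 0, 0, 0, 0; 0, 0, 0, 0, 0, 0, 0]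

private noncomputable def _root_.Cfsg.Agent.LsF.f79201c_3 : {f // @Cfsg.Agent.H621.Zer.Bu1 = f} := ⟨_, by first | (delta Cfsg.Agent.H621.Zer.Bu1; rewrite [Cfsg.Agent.LsF.mof_pat, Cfsg.Agent.LsF.ineg_pat, Cfsg.Agent.LsF.vecCons_eq]; exact rfl) | exact rfl⟩
private noncomputable def _root_.Cfsg.Agent.LsF.f79201c_1 : {f // @Cfsg.Agent.H621.Zer.GG = f} := ⟨_, by first | (delta Cfsg.Agent.H621.Zer.GG; rewrite [Cfsg.Agent.LsF.vecCons_eq]; exact rfl) | exact rfl⟩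
private noncomputable def _root_.Cfsg.Agent.LsF.f79201c_2 : {f // @Cfsg.Agent.H621.Zer.mm = f} := ⟨_, by first | (delta Cfsg.Agent.H621.Zer.mm; rewrite [Cfsg.Agent.LsF.f79201c_1.2, Cfsg.Agent.LsF.finFintype_eq, Cfsg.Agent.LsF.instMHMul_eq, Cfsg.Agent.LsF.instMMul_eq]; exact rfl) | exact rfl⟩
include h2 in
theorem Bu1_good : D.Good (Int.castRingHom F) Bu1 := by
  have h : Bu1 = (mm (mm (Mr ![0, 0, 1, 0, 0, 0, 1]) (Mr ![1, 0, 1, 0, 0, 0, 1])) (mm (Mr ![0, 0, 0, 0, 0, 0, 1]) (Mr ![-1, 0, 0, 0, 0, 0, 1]))) := by (refine of_decide_eq_true ?_; (try (rewrite [Cfsg.Agent.LsF.f79201c_3.2, Cfsg.Agent.LsF.f79201c_2.2, Cfsg.Agent.LsF.ineg_pat, Cfsg.Agent.LsF.vecCons_eq, Cfsg.Agent.LsF.finFintype_eq, Cfsg.Agent.LsF.dMat_eq, Cfsg.Agent.LsF.instIDecEq_eq, Cfsg.Agent.LsF.decide_eq])); decide +kernel)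
  rw [h]
  exact (Emb.Good.mul (Int.castRingHom F) D (gp D h2 ![0, 0, 1, 0, 0, 0, 1] ![1, 0, 1, 0, 0, 0, 1] (by decide) (by decide)) (gp D h2 ![0, 0, 0, 0, 0, 0, 1] ![-1, 0, 0, 0, 0, 0, 1] (by decide) (by decide)))

def Ba : M7 ℤ := !![0, 0, 0, -1, 0, 0, 0; 0, 0, 0, 0, 0, 0, 0; 0, 0, 0, 0, 0, 0, 0; 1, 0, 0, 0, 0, 0, 0; 0, 0, 0, 0, 0, 0, 0; 0, 0, 0, 0, 0, 0, 0; 0, 0, 0, 0, 0, 0, 0]

private noncomputable def _root_.Cfsg.Agent.LsF.f79201c_4 : {f // @Cfsg.Agent.H621.Zer.Ba = f} := ⟨_, by first | (delta Cfsg.Agent.H621.Zer.Ba; rewrite [Cfsg.Agent.LsF.mof_pat, Cfsg.Agent.LsF.ineg_pat, Cfsg.Agent.LsF.vecCons_eq]; exact rfl) | exact rfl⟩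
include h2 in
theorem Ba_good : D.Good (Int.castRingHom F) Ba := by
  have h : Ba = (mm (mm (Mr ![0, 0, 0, 1, 0, 0, 1]) (Mr ![1, 0, 0, 1, 0, 0, 1])) (mm (Mr ![0, 0, 0, 0, 0, 0, 1]) (Mr ![-1, 0, 0, 0, 0, 0, 1]))) := by (refine of_decide_eq_true ?_; (try (rewrite [Cfsg.Agent.LsF.f79201c_4.2, Cfsg.Agent.LsF.f79201c_2.2, Cfsg.Agent.LsF.ineg_pat, Cfsg.Agent.LsF.vecCons_eq, Cfsg.Agent.LsF.finFintype_eq, Cfsg.Agent.LsF.dMat_eq, Cfsg.Agent.LsF.instIDecEq_eq, Cfsg.Agent.LsF.decide_eq])); decide +kernel)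
  rw [h]
  exact (Emb.Good.mul (Int.castRingHom F) D (gp D h2 ![0, 0, 0, 1, 0, 0, 1] ![1, 0, 0, 1, 0, 0, 1] (by decide) (by decide)) (gp D h2 ![0, 0, 0, 0, 0, 0, 1] ![-1, 0, 0, 0, 0, 0, 1] (by decide) (by decide)))

def Bb : M7 ℤ := !![0, 0, 0, 0, 0, 0, 0; 0, 0, 0, 0, 0, 0, 0; 0, 0, 0, 0, 0, -1, 0; 0, 0, 0, 0, 0, 0, 0; 0, 0, 0, 0, 0, 0, 0; 0, 0, 1, 0, 0, 0, 0; 0, 0, 0, 0, 0, 0, 0]

private noncomputable def _root_.Cfsg.Agent.LsF.f79201c_5 : {f // @Cfsg.Agent.H621.Zer.Bb = f} := ⟨_, by first | (delta Cfsg.Agent.H621.Zer.Bb; rewrite [Cfsg.Agent.LsF.mof_pat, Cfsg.Agent.LsF.ineg_pat, Cfsg.Agent.LsF.vecCons_eq]; exact rfl) | exact rfl⟩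
include h2 in
theorem Bb_good : D.Good (Int.castRingHom F) Bb := by
  have h : Bb = (mm (mm (Mr ![0, 0, 0, 0, 0, 1, 1]) (Mr ![0, 0, 1, 0, 0, 1, 1])) (mm (Mr ![0, 0, 0, 0, 0, 0, 1]) (Mr ![0, 0, -1, 0, 0, 0, 1]))) := by (refine of_decide_eq_true ?_; (try (rewrite [Cfsg.Agent.LsF.f79201c_5.2, Cfsg.Agent.LsF.f79201c_2.2, Cfsg.Agent.LsF.ineg_pat, Cfsg.Agent.LsF.vecCons_eq, Cfsg.Agent.LsF.finFintype_eq, Cfsg.Agent.LsF.dMat_eq, Cfsg.Agent.LsF.instIDecEq_eq, Cfsg.Agent.LsF.decide_eq])); decide +kernel)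
  rw [h]
  exact (Emb.Good.mul (Int.castRingHom F) D (gp D h2 ![0, 0, 0, 0, 0, 1, 1] ![0, 0, 1, 0, 0, 1, 1] (by decide) (by decide)) (gp D h2 ![0, 0, 0, 0, 0, 0, 1] ![0, 0, -1, 0, 0, 0, 1] (by decide) (by decide)))

def Bc : M7 ℤ := !![0, 0, 0, 0, 0, 0, 0; 0, 0, 0, 0, 0, 0, 0; 0, 0, -1, 0, 0, 0, -1; 0, 0, 0, 0, 0, 0, 0; 0, 0, 0, 0, 0, 0, 0; 0, 0, 0, 0, 0, 0, 0; 0, 0, 1, 0, 0, 0, 0]

include h2 in
theorem Bc_good : D.Good (Int.castRingHom F) Bc := by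
  have h : Bc = (mm (Mr ![0, 0, 0, 0, 0, 0, 1]) (Mr ![0, 0, 1, 0, 0, 0, 1])) := by decide +kernel
  rw [h]
  exact (gp D h2 ![0, 0, 0, 0, 0, 0, 1] ![0, 0, 1, 0, 0, 0, 1] (by decide) (by decide))

def BJ : M7 ℤ := !![0, -2, 0, 0, 0, 0, 0; -2, 0, 0, 0, 0, 0, 0; 0, 0, 0, -2, 0, 0, 0; 0, 0, -2, 0, 0, 0, 0; 0, 0, 0, 0, 0, 0, 0; 0, 0, 0, 0, 0, 0, 0; 0, 0, 0, 0, 0, 0, 0]

private noncomputable def _root_.Cfsg.Agent.LsF.f79201c_7 : {f // @Cfsg.Agent.H621.Zer.BJ = f} := ⟨_, by first | (delta Cfsg.Agent.H621.Zer.BJ; rewrite [Cfsg.Agent.LsF.mof_pat, Cfsg.Agent.LsF.ineg_pat, Cfsg.Agent.LsF.vecCons_eq]; exact rfl) | exact rfl⟩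
include h2 in
theorem BJ_good : D.Good (Int.castRingHom F) BJ := by
  have h : BJ = (mm (mm (Mr ![1, 1, 0, 0, 0, 0, 0]) (Mr ![0, 0, 1, 1, 0, 0, 0])) (mm (Mr ![1, -1, 0, 0, 0, 0, 0]) (Mr ![0, 0, 1, -1, 0, 0, 0]))) := by (refine of_decide_eq_true ?_; (try (rewrite [Cfsg.Agent.LsF.f79201c_7.2, Cfsg.Agent.LsF.f79201c_2.2, Cfsg.Agent.LsF.ineg_pat, Cfsg.Agent.LsF.vecCons_eq, Cfsg.Agent.LsF.finFintype_eq, Cfsg.Agent.LsF.dMat_eq, Cfsg.Agent.LsF.instIDecEq_eq, Cfsg.Agent.LsF.decide_eq])); decide +kernel)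
  rw [h]
  exact (Emb.Good.mul (Int.castRingHom F) D (gp D h2 ![1, 1, 0, 0, 0, 0, 0] ![0, 0, 1, 1, 0, 0, 0] (by decide) (by decide)) (gp D h2 ![1, -1, 0, 0, 0, 0, 0] ![0, 0, 1, -1, 0, 0, 0] (by decide) (by decide)))

def Bk : M7 ℤ := !![-1, 0, -1, -1, 0, 0, 0; 0, 0, 0, 0, 0, 0, 0; 1, 0, 0, 0, 0, 0, 0; 1, 0, 0, 0, 0, 0, 0; 0, 0, 0, 0, 0, 0, 0; 0, 0, 0, 0, 0, 0, 0; 0, 0, 0, 0, 0, 0, 0]

include h2 in
theorem Bk_good : D.Good (Int.castRingHom F) Bk := by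
  have h : Bk = (mm (Mr ![0, 0, 1, 1, 0, 0, 0]) (Mr ![1, 0, 1, 1, 0, 0, 0])) := by decide +kernel
  rw [h]
  exact (gp D h2 ![0, 0, 1, 1, 0, 0, 0] ![1, 0, 1, 1, 0, 0, 0] (by decide) (by decide))

def Eu1 : M7 ℤ := !![0, 0, -1, 0, 0, 0, 0; 0, 0, 0, 0, 0, 0, 0; 1, 0, 0, 0, 0, 0, 0; 0, 0, 0, 0, 0, 0, 0; 0, 0, 0, 0, 0, 0, 0; 0, 0, 0, 0, 0, 0, 0; 0, 0, 0, 0, 0, 0, 0]

include h2 in
theorem Eu1_r1 : ((mm Eu1 Eu1).map (Int.castRingHom F)).rank = 2 :=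
  rank_of_cert (Int.castRingHom F) (r := 2)
    !![-2, 0; 0, 0; 0, 2; 0, 0; 0, 0; 0, 0; 0, 0]
    !![0, 0, 1, 0, 0, 0, 0; 1, 0, 0, 0, 0, 0, 0]
    !![-1, 0, 0, 0, 0, 0, 0; 0, 0, 1, 0, 0, 0, 0]
    !![0, 1; 0, 0; 1, 0; 0, 0; 0, 0; 0, 0; 0, 0]
    (a := 2) (b := 1) (c := 1) (two_pow_ne h2 1 (by norm_num)) (two_pow_ne h2 0 (by norm_num)) (two_pow_ne h2 0 (by norm_num))
    (by decide +kernel) (by decide +kernel) (by decide +kernel)

private noncomputable def _root_.Cfsg.Agent.LsF.f79201c_9 : {f // @Cfsg.Agent.H621.Zer.Eu1 = f} := ⟨_, by first | (delta Cfsg.Agent.H621.Zer.Eu1; rewrite [Cfsg.Agent.LsF.mof_pat, Cfsg.Agent.LsF.ineg_pat, Cfsg.Agent.LsF.vecCons_eq]; exact rfl) | exact rfl⟩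
theorem Eu1_r2 : ((mm Eu1 Eu1 * GG * mm Eu1 Eu1).map (Int.castRingHom F)).rank = 0 :=
  rank_zero_of _ (by (refine of_decide_eq_true ?_; (try (rewrite [Cfsg.Agent.LsF.f79201c_2.2, Cfsg.Agent.LsF.f79201c_9.2, Cfsg.Agent.LsF.f79201c_1.2, Cfsg.Agent.LsF.finFintype_eq, Cfsg.Agent.LsF.dMat_eq, Cfsg.Agent.LsF.instMHMul_eq, Cfsg.Agent.LsF.instMMul_eq, Cfsg.Agent.LsF.iACM_eq, Cfsg.Agent.LsF.instIMul_eq, Cfsg.Agent.LsF.instIDecEq_eq, Cfsg.Agent.LsF.decide_eq])); decide +kernel))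

include D h2 in
theorem Eu1_el {p : ℕ} [CharP F p] (hQ : (polarBilin Q).Nondegenerate) (hn : 3 ≤ Fintype.card ι)
    (hs : ∃ u : ι → F, u ≠ 0 ∧ Q u = 0) : OddEl Q p (2, 0, true) := by
  have hg : D.Good (Int.castRingHom F) Eu1 := by
    have h : Eu1 = Bu1 := by decide +kernel
    rw [h]
    exact (Bu1_good D h2)
  refine oddEl_of D hQ hn hs Eu1 hg (Eu1_r1 h2) (Eu1_r2) ![1, 0, 0, 0, 0, 0, 0] (by decide +kernel) 2 ?_ ?_ ?_
  · have h : (Eu1 *ᵥ ![1, 0, 0, 0, 0, 0, 0]) 2 = 1 := by decide +kernel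
    rw [h]
    exact two_pow_ne h2 0 (by norm_num)
  · intro _
    (refine of_decide_eq_true ?_; (try (rewrite [Cfsg.Agent.LsF.f79201c_9.2, Cfsg.Agent.LsF.f79201c_1.2, Cfsg.Agent.LsF.finFintype_eq, Cfsg.Agent.LsF.dMat_eq, Cfsg.Agent.LsF.instMHMul_eq, Cfsg.Agent.LsF.instMMul_eq, Cfsg.Agent.LsF.iACM_eq, Cfsg.Agent.LsF.instIMul_eq, Cfsg.Agent.LsF.instIDecEq_eq, Cfsg.Agent.LsF.decide_eq])); decide +kernel)
  · intro h
    exact absurd h (by decide)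

def Eu2 : M7 ℤ := !![0, 0, 0, 0, 0, 0, 0; 0, 0, 0, 0, 0, 0, 0; 0, 0, 0, 0, 0, 0, 0; 0, 0, 0, 0, 0, 0, 0; 0, 0, 0, 0, -1, 0, -1; 0, 0, 0, 0, 0, 0, 0; 0, 0, 0, 0, 1, 0, 0]

include h2 in
theorem Eu2_r1 : ((mm Eu2 Eu2).map (Int.castRingHom F)).rank = 2 :=
  rank_of_cert (Int.castRingHom F) (r := 2)
    !![0, 0; 0, 0; 0, 0; 0, 0; -4, -2; 0, 0; 2, 0]
    !![0, 0, 0, 0, 1, 0, 0; 0, 0, 0, 0, 0, 0, 1]
    !![0, 0, 0, 0, 0, 0, 1; 0, 0, 0, 0, -1, 0, -2]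
    !![0, 0; 0, 0; 0, 0; 0, 0; 1, 0; 0, 0; 0, 1]
    (a := 2) (b := 1) (c := 1) (two_pow_ne h2 1 (by norm_num)) (two_pow_ne h2 0 (by norm_num)) (two_pow_ne h2 0 (by norm_num))
    (by decide +kernel) (by decide +kernel) (by decide +kernel)

private noncomputable def _root_.Cfsg.Agent.LsF.f79201c_10 : {f // @Cfsg.Agent.H621.Zer.Eu2 = f} := ⟨_, by first | (delta Cfsg.Agent.H621.Zer.Eu2; rewrite [Cfsg.Agent.LsF.mof_pat, Cfsg.Agent.LsF.ineg_pat, Cfsg.Agent.LsF.vecCons_eq]; exact rfl) | exact rfl⟩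
include h2 in
theorem Eu2_r2 : ((mm Eu2 Eu2 * GG * mm Eu2 Eu2).map (Int.castRingHom F)).rank = 1 :=
  rank_of_cert (Int.castRingHom F) (r := 1)
    !![0; 0; 0; 0; -8; 0; 0]
    !![0, 0, 0, 0, 1, 0, 0]
    !![0, 0, 0, 0, -1, 0, 0]
    !![0; 0; 0; 0; 1; 0; 0]
    (a := 8) (b := 1) (c := 1) (two_pow_ne h2 3 (by norm_num)) (two_pow_ne h2 0 (by norm_num)) (two_pow_ne h2 0 (by norm_num))
    (by (refine of_decide_eq_true ?_; (try (rewrite [Cfsg.Agent.LsF.f79201c_2.2, Cfsg.Agent.LsF.f79201c_10.2, Cfsg.Agent.LsF.f79201c_1.2, Cfsg.Agent.LsF.mof_pat, Cfsg.Agent.LsF.mof_pat, Cfsg.Agent.LsF.ineg_pat, Cfsg.Agent.LsF.vecCons_eq, Cfsg.Agent.LsF.finFintype_eq, Cfsg.Agent.LsF.dMat_eq, Cfsg.Agent.LsF.instMHMul_eq, Cfsg.Agent.LsF.instMMul_eq, Cfsg.Agent.LsF.iACM_eq, Cfsg.Agent.LsF.instIMul_eq, Cfsg.Agent.LsF.instIDecEq_eq, Cfsg.Agent.LsF.decide_eq])); decide +kernel)) (by decide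 +kernel) (by decide +kernel)

include D h2 in
theorem Eu2_el {p : ℕ} [CharP F p] (hQ : (polarBilin Q).Nondegenerate) (hn : 3 ≤ Fintype.card ι)
    (hs : ∃ u : ι → F, u ≠ 0 ∧ Q u = 0) : OddEl Q p (2, 1, true) := by
  have hg : D.Good (Int.castRingHom F) Eu2 := by
    have h : Eu2 = Bu2 := by decide +kernel
    rw [h]
    exact (Bu2_good D h2)
  refine oddEl_of D hQ hn hs Eu2 hg (Eu2_r1 h2) (Eu2_r2 h2) ![0, 0, 0, 0, 0, 0, 1] (by decide +kernel) 4 ?_ ?_ ?_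
  · have h : (Eu2 *ᵥ ![0, 0, 0, 0, 0, 0, 1]) 4 = -1 := by decide +kernel
    rw [h]
    rw [show (-1 : ℤ) = -(1) from rfl, map_neg]
    exact neg_ne_zero.2 (two_pow_ne h2 0 (by norm_num))
  · intro _
    (refine of_decide_eq_true ?_; (try (rewrite [Cfsg.Agent.LsF.f79201c_10.2, Cfsg.Agent.LsF.f79201c_1.2, Cfsg.Agent.LsF.finFintype_eq, Cfsg.Agent.LsF.dMat_eq, Cfsg.Agent.LsF.instMHMul_eq, Cfsg.Agent.LsF.instMMul_eq, Cfsg.Agent.LsF.iACM_eq, Cfsg.Agent.LsF.instIMul_eq, Cfsg.Agent.LsF.instIDecEq_eq, Cfsg.Agent.LsF.decide_eq])); decide +kernel)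
  · intro h
    exact absurd h (by decide)

def Eu3 : M7 ℤ := !![0, 0, -1, 0, 0, 0, 0; 0, 0, 0, 0, 0, 0, 0; 1, 0, 0, 0, 0, 0, 0; 0, 0, 0, 0, 0, 0, 0; 0, 0, 0, 0, -1, 0, -1; 0, 0, 0, 0, 0, 0, 0; 0, 0, 0, 0, 1, 0, 0]

include h2 in
theorem Eu3_r1 : ((mm Eu3 Eu3).map (Int.castRingHom F)).rank = 4 :=
  rank_of_cert (Int.castRingHom F) (r := 4)
    !![-2, 0, 0, 0; 0, 0, 0, 0; 0, 2, 0, 0; 0, 0, 0, 0; 0, 0, -4, -2; 0, 0, 0, 0; 0, 0, 2, 0]
    !![0, 0, 1, 0, 0, 0, 0; 1, 0, 0, 0, 0, 0, 0; 0, 0, 0, 0, 1, 0, 0; 0, 0, 0, 0, 0, 0, 1]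
    !![-1, 0, 0, 0, 0, 0, 0; 0, 0, 1, 0, 0, 0, 0; 0, 0, 0, 0, 0, 0, 1; 0, 0, 0, 0, -1, 0, -2]
    !![0, 1, 0, 0; 0, 0, 0, 0; 1, 0, 0, 0; 0, 0, 0, 0; 0, 0, 1, 0; 0, 0, 0, 0; 0, 0, 0, 1]
    (a := 2) (b := 1) (c := 1) (two_pow_ne h2 1 (by norm_num)) (two_pow_ne h2 0 (by norm_num)) (two_pow_ne h2 0 (by norm_num))
    (by decide +kernel) (by decide +kernel) (by decide +kernel)

private noncomputable def _root_.Cfsg.Agent.LsF.f79201c_11 : {f // @Cfsg.Agent.H621.Zer.Eu3 = f} := ⟨_, by first | (delta Cfsg.Agent.H621.Zer.Eu3; rewrite [Cfsg.Agent.LsF.mof_pat, Cfsg.Agent.LsF.ineg_pat, Cfsg.Agent.LsF.vecCons_eq]; exact rfl) | exact rfl⟩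
include h2 in
theorem Eu3_r2 : ((mm Eu3 Eu3 * GG * mm Eu3 Eu3).map (Int.castRingHom F)).rank = 1 :=
  rank_of_cert (Int.castRingHom F) (r := 1)
    !![0; 0; 0; 0; -8; 0; 0]
    !![0, 0, 0, 0, 1, 0, 0]
    !![0, 0, 0, 0, -1, 0, 0]
    !![0; 0; 0; 0; 1; 0; 0]
    (a := 8) (b := 1) (c := 1) (two_pow_ne h2 3 (by norm_num)) (two_pow_ne h2 0 (by norm_num)) (two_pow_ne h2 0 (by norm_num))
    (by (refine of_decide_eq_true ?_; (try (rewrite [Cfsg.Agent.LsF.f79201c_2.2, Cfsg.Agent.LsF.f79201c_11.2, Cfsg.Agent.LsF.f79201c_1.2, Cfsg.Agent.LsF.mof_pat, Cfsg.Agent.LsF.mof_pat, Cfsg.Agent.LsF.ineg_pat, Cfsg.Agent.LsF.vecCons_eq, Cfsg.Agent.LsF.finFintype_eq, Cfsg.Agent.LsF.dMat_eq, Cfsg.Agent.LsF.instMHMul_eq, Cfsg.Agent.LsF.instMMul_eq, Cfsg.Agent.LsF.iACM_eq, Cfsg.Agent.LsF.instIMul_eq, Cfsg.Agent.LsF.instIDecEq_eq, Cfsg.Agent.LsF.decide_eq])); decide +kernel)) (by decide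 +kernel) (by decide +kernel)

private noncomputable def _root_.Cfsg.Agent.LsF.f79201c_0 : {f // @Cfsg.Agent.H621.Zer.Bu2 = f} := ⟨_, by first | (delta Cfsg.Agent.H621.Zer.Bu2; rewrite [Cfsg.Agent.LsF.mof_pat, Cfsg.Agent.LsF.ineg_pat, Cfsg.Agent.LsF.vecCons_eq]; exact rfl) | exact rfl⟩
include D h2 in
theorem Eu3_el {p : ℕ} [CharP F p] (hQ : (polarBilin Q).Nondegenerate) (hn : 3 ≤ Fintype.card ι)
    (hs : ∃ u : ι → F, u ≠ 0 ∧ Q u = 0) : OddEl Q p (4, 1, true) := by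
  have hg : D.Good (Int.castRingHom F) Eu3 := by
    have h : Eu3 = (mm Bu1 Bu2) := by (refine of_decide_eq_true ?_; (try (rewrite [Cfsg.Agent.LsF.f79201c_11.2, Cfsg.Agent.LsF.f79201c_2.2, Cfsg.Agent.LsF.f79201c_3.2, Cfsg.Agent.LsF.f79201c_0.2, Cfsg.Agent.LsF.finFintype_eq, Cfsg.Agent.LsF.dMat_eq, Cfsg.Agent.LsF.instIDecEq_eq, Cfsg.Agent.LsF.decide_eq])); decide +kernel)
    rw [h]
    exact (Emb.Good.mul (Int.castRingHom F) D (Bu1_good D h2) (Bu2_good D h2))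
  refine oddEl_of D hQ hn hs Eu3 hg (Eu3_r1 h2) (Eu3_r2 h2) ![1, 0, 0, 0, 0, 0, 0] (by decide +kernel) 2 ?_ ?_ ?_
  · have h : (Eu3 *ᵥ ![1, 0, 0, 0, 0, 0, 0]) 2 = 1 := by decide +kernel
    rw [h]
    exact two_pow_ne h2 0 (by norm_num)
  · intro _
    (refine of_decide_eq_true ?_; (try (rewrite [Cfsg.Agent.LsF.f79201c_11.2, Cfsg.Agent.LsF.f79201c_1.2, Cfsg.Agent.LsF.finFintype_eq, Cfsg.Agent.LsF.dMat_eq, Cfsg.Agent.LsF.instMHMul_eq, Cfsg.Agent.LsF.instMMul_eq, Cfsg.Agent.LsF.iACM_eq, Cfsg.Agent.LsF.instIMul_eq, Cfsg.Agent.LsF.instIDecEq_eq, Cfsg.Agent.LsF.decide_eq])); decide +kernel)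
  · intro h
    exact absurd h (by decide)

def Eu4 : M7 ℤ := !![0, 0, 0, -1, 0, 1, 0; 0, 0, 0, 0, 0, 0, 0; 0, 0, 0, 0, 0, -1, 0; 1, 0, 0, 0, 0, 0, 0; 0, 0, 0, 0, 0, 0, 0; 0, 0, 1, 0, 0, 0, 0; 0, 0, 0, 0, 0, 0, 0]

private noncomputable def _root_.Cfsg.Agent.LsF.f79201c_12 : {f // @Cfsg.Agent.H621.Zer.Eu4 = f} := ⟨_, by first | (delta Cfsg.Agent.H621.Zer.Eu4; rewrite [Cfsg.Agent.LsF.mof_pat, Cfsg.Agent.LsF.ineg_pat, Cfsg.Agent.LsF.vecCons_eq]; exact rfl) | exact rfl⟩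
include h2 in
theorem Eu4_r1 : ((mm Eu4 Eu4).map (Int.castRingHom F)).rank = 4 :=
  rank_of_cert (Int.castRingHom F) (r := 4)
    !![-2, 3, 0, 0; 0, 0, 0, 0; 0, -2, 0, 0; 0, 0, 2, 0; 0, 0, 0, 0; 0, 0, 1, 2; 0, 0, 0, 0]
    !![0, 0, 0, 1, 0, 0, 0; 0, 0, 0, 0, 0, 1, 0; 1, 0, 0, 0, 0, 0, 0; 0, 0, 1, 0, 0, 0, 0]
    !![-2, 0, -3, 0, 0, 0, 0; 0, 0, -2, 0, 0, 0, 0; 0, 0, 0, 2, 0, 0, 0; 0, 0, 0, -1, 0, 2, 0]
    !![0, 0, 1, 0; 0, 0, 0, 0; 0, 0, 0, 1; 1, 0, 0, 0; 0, 0, 0, 0; 0, 1, 0, 0; 0, 0, 0, 0]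
    (a := 4) (b := 1) (c := 1) (two_pow_ne h2 2 (by norm_num)) (two_pow_ne h2 0 (by norm_num)) (two_pow_ne h2 0 (by norm_num))
    (by (refine of_decide_eq_true ?_; (try (rewrite [Cfsg.Agent.LsF.f79201c_2.2, Cfsg.Agent.LsF.f79201c_12.2, Cfsg.Agent.LsF.mof_pat, Cfsg.Agent.LsF.mof_pat, Cfsg.Agent.LsF.ineg_pat, Cfsg.Agent.LsF.vecCons_eq, Cfsg.Agent.LsF.finFintype_eq, Cfsg.Agent.LsF.dMat_eq, Cfsg.Agent.LsF.instMHMul_eq, Cfsg.Agent.LsF.instIDecEq_eq, Cfsg.Agent.LsF.decide_eq])); decide +kernel)) (by decide +kernel) (by decide +kernel)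

include h2 in
theorem Eu4_r2 : ((mm Eu4 Eu4 * GG * mm Eu4 Eu4).map (Int.castRingHom F)).rank = 2 :=
  rank_of_cert (Int.castRingHom F) (r := 2)
    !![4, 0; 0, 0; 0, 0; 0, 0; 0, 0; 0, 4; 0, 0]
    !![0, 0, 0, 0, 0, 1, 0; 1, 0, 0, 0, 0, 0, 0]
    !![1, 0, 0, 0, 0, 0, 0; 0, 0, 0, 0, 0, 1, 0]
    !![0, 1; 0, 0; 0, 0; 0, 0; 0, 0; 1, 0; 0, 0]
    (a := 4) (b := 1) (c := 1) (two_pow_ne h2 2 (by norm_num)) (two_pow_ne h2 0 (by norm_num)) (two_pow_ne h2 0 (by norm_num))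
    (by (refine of_decide_eq_true ?_; (try (rewrite [Cfsg.Agent.LsF.f79201c_2.2, Cfsg.Agent.LsF.f79201c_12.2, Cfsg.Agent.LsF.f79201c_1.2, Cfsg.Agent.LsF.mof_pat, Cfsg.Agent.LsF.mof_pat, Cfsg.Agent.LsF.vecCons_eq, Cfsg.Agent.LsF.finFintype_eq, Cfsg.Agent.LsF.dMat_eq, Cfsg.Agent.LsF.instMHMul_eq, Cfsg.Agent.LsF.instMMul_eq, Cfsg.Agent.LsF.iACM_eq, Cfsg.Agent.LsF.instIMul_eq, Cfsg.Agent.LsF.instIDecEq_eq, Cfsg.Agent.LsF.decide_eq])); decide +kernel)) (by decide +kernel) (by decide +kernel)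

include D h2 in
theorem Eu4_el {p : ℕ} [CharP F p] (hQ : (polarBilin Q).Nondegenerate) (hn : 3 ≤ Fintype.card ι)
    (hs : ∃ u : ι → F, u ≠ 0 ∧ Q u = 0) : OddEl Q p (4, 2, true) := by
  have hg : D.Good (Int.castRingHom F) Eu4 := by
    have h : Eu4 = (mm Ba Bb) := by (refine of_decide_eq_true ?_; (try (rewrite [Cfsg.Agent.LsF.f79201c_12.2, Cfsg.Agent.LsF.f79201c_2.2, Cfsg.Agent.LsF.f79201c_4.2, Cfsg.Agent.LsF.f79201c_5.2, Cfsg.Agent.LsF.finFintype_eq, Cfsg.Agent.LsF.dMat_eq, Cfsg.Agent.LsF.instIDecEq_eq, Cfsg.Agent.LsF.decide_eq])); decide +kernel)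
    rw [h]
    exact (Emb.Good.mul (Int.castRingHom F) D (Ba_good D h2) (Bb_good D h2))
  refine oddEl_of D hQ hn hs Eu4 hg (Eu4_r1 h2) (Eu4_r2 h2) ![0, 0, 1, 0, 0, 0, 0] (by decide +kernel) 5 ?_ ?_ ?_
  · have h : (Eu4 *ᵥ ![0, 0, 1, 0, 0, 0, 0]) 5 = 1 := by decide +kernel
    rw [h]
    exact two_pow_ne h2 0 (by norm_num)
  · intro _
    (refine of_decide_eq_true ?_; (try (rewrite [Cfsg.Agent.LsF.f79201c_12.2, Cfsg.Agent.LsF.f79201c_1.2, Cfsg.Agent.LsF.finFintype_eq, Cfsg.Agent.LsF.dMat_eq, Cfsg.Agent.LsF.instMHMul_eq, Cfsg.Agent.LsF.instMMul_eq, Cfsg.Agent.LsF.iACM_eq, Cfsg.Agent.LsF.instIMul_eq, Cfsg.Agent.LsF.instIDecEq_eq, Cfsg.Agent.LsF.decide_eq])); decide +kernel)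
  · intro h
    exact absurd h (by decide)

def Eu5 : M7 ℤ := !![0, 0, 1, -1, 0, 0, 1; 0, 0, 0, 0, 0, 0, 0; 0, 0, -1, 0, 0, 0, -1; 1, 0, 0, 0, 0, 0, 0; 0, 0, 0, 0, 0, 0, 0; 0, 0, 0, 0, 0, 0, 0; 0, 0, 1, 0, 0, 0, 0]

include h2 in
theorem Eu5_r1 : ((mm Eu5 Eu5).map (Int.castRingHom F)).rank = 4 :=
  rank_of_cert (Int.castRingHom F) (r := 4)
    !![1, 5, -2, 3; 0, 0, 0, 0; -1, -4, 0, -2; 2, 0, 0, 0; 0, 0, 0, 0; 0, 0, 0, 0; 1, 2, 0, 0]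
    !![1, 0, 0, 0, 0, 0, 0; 0, 0, 1, 0, 0, 0, 0; 0, 0, 0, 1, 0, 0, 0; 0, 0, 0, 0, 0, 0, 1]
    !![0, 0, 0, 2, 0, 0, 0; 0, 0, 0, -1, 0, 0, 2; -2, 0, -3, 0, 0, 0, -1; 0, 0, -2, 1, 0, 0, -4]
    !![1, 0, 0, 0; 0, 0, 0, 0; 0, 1, 0, 0; 0, 0, 1, 0; 0, 0, 0, 0; 0, 0, 0, 0; 0, 0, 0, 1]
    (a := 4) (b := 1) (c := 1) (two_pow_ne h2 2 (by norm_num)) (two_pow_ne h2 0 (by norm_num)) (two_pow_ne h2 0 (by norm_num))
    (by decide +kernel) (by decide +kernel) (by decide +kernel)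

private noncomputable def _root_.Cfsg.Agent.LsF.f79201c_13 : {f // @Cfsg.Agent.H621.Zer.Eu5 = f} := ⟨_, by first | (delta Cfsg.Agent.H621.Zer.Eu5; rewrite [Cfsg.Agent.LsF.mof_pat, Cfsg.Agent.LsF.ineg_pat, Cfsg.Agent.LsF.vecCons_eq]; exact rfl) | exact rfl⟩
include h2 in
theorem Eu5_r2 : ((mm Eu5 Eu5 * GG * mm Eu5 Eu5).map (Int.castRingHom F)).rank = 3 :=
  rank_of_cert (Int.castRingHom F) (r := 3)
    !![4, 20, 18; 0, 0, 0; 0, -8, -12; 0, 0, 0; 0, 0, 0; 0, 0, 0; 0, 0, 4]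
    !![0, 0, 0, 0, 0, 0, 1; 0, 0, 1, 0, 0, 0, 0; 1, 0, 0, 0, 0, 0, 0]
    !![2, 0, 5, 0, 0, 0, 6; 0, 0, -1, 0, 0, 0, -3; 0, 0, 0, 0, 0, 0, 2]
    !![0, 0, 1; 0, 0, 0; 0, 1, 0; 0, 0, 0; 0, 0, 0; 0, 0, 0; 1, 0, 0]
    (a := 8) (b := 1) (c := 1) (two_pow_ne h2 3 (by norm_num)) (two_pow_ne h2 0 (by norm_num)) (two_pow_ne h2 0 (by norm_num))
    (by (refine of_decide_eq_true ?_; (try (rewrite [Cfsg.Agent.LsF.f79201c_2.2, Cfsg.Agent.LsF.f79201c_13.2, Cfsg.Agent.LsF.f79201c_1.2, Cfsg.Agent.LsF.mof_pat, Cfsg.Agent.LsF.mof_pat, Cfsg.Agent.LsF.ineg_pat, Cfsg.Agent.LsF.vecCons_eq, Cfsg.Agent.LsF.finFintype_eq, Cfsg.Agent.LsF.dMat_eq, Cfsg.Agent.LsF.instMHMul_eq, Cfsg.Agent.LsF.instMMul_eq, Cfsg.Agent.LsF.iACM_eq, Cfsg.Agent.LsF.instIMul_eq, Cfsg.Agent.LsF.instIDecEq_eq, Cfsg.Agent.LsF.decide_eq])); decide +kernel)) (by decide +kernel) (by decide +kernel)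

private noncomputable def _root_.Cfsg.Agent.LsF.f79201c_6 : {f // @Cfsg.Agent.H621.Zer.Bc = f} := ⟨_, by first | (delta Cfsg.Agent.H621.Zer.Bc; rewrite [Cfsg.Agent.LsF.mof_pat, Cfsg.Agent.LsF.ineg_pat, Cfsg.Agent.LsF.vecCons_eq]; exact rfl) | exact rfl⟩
include D h2 in
theorem Eu5_el {p : ℕ} [CharP F p] (hQ : (polarBilin Q).Nondegenerate) (hn : 3 ≤ Fintype.card ι)
    (hs : ∃ u : ι → F, u ≠ 0 ∧ Q u = 0) : OddEl Q p (4, 3, true) := by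
  have hg : D.Good (Int.castRingHom F) Eu5 := by
    have h : Eu5 = (mm Ba Bc) := by (refine of_decide_eq_true ?_; (try (rewrite [Cfsg.Agent.LsF.f79201c_13.2, Cfsg.Agent.LsF.f79201c_2.2, Cfsg.Agent.LsF.f79201c_4.2, Cfsg.Agent.LsF.f79201c_6.2, Cfsg.Agent.LsF.finFintype_eq, Cfsg.Agent.LsF.dMat_eq, Cfsg.Agent.LsF.instIDecEq_eq, Cfsg.Agent.LsF.decide_eq])); decide +kernel)
    rw [h]
    exact (Emb.Good.mul (Int.castRingHom F) D (Ba_good D h2) (Bc_good D h2))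
  refine oddEl_of D hQ hn hs Eu5 hg (Eu5_r1 h2) (Eu5_r2 h2) ![0, 0, 0, 1, 0, 0, 0] (by decide +kernel) 0 ?_ ?_ ?_
  · have h : (Eu5 *ᵥ ![0, 0, 0, 1, 0, 0, 0]) 0 = -1 := by decide +kernel
    rw [h]
    rw [show (-1 : ℤ) = -(1) from rfl, map_neg]
    exact neg_ne_zero.2 (two_pow_ne h2 0 (by norm_num))
  · intro _
    (refine of_decide_eq_true ?_; (try (rewrite [Cfsg.Agent.LsF.f79201c_13.2, Cfsg.Agent.LsF.f79201c_1.2, Cfsg.Agent.LsF.finFintype_eq, Cfsg.Agent.LsF.dMat_eq, Cfsg.Agent.LsF.instMHMul_eq, Cfsg.Agent.LsF.instMMul_eq, Cfsg.Agent.LsF.iACM_eq, Cfsg.Agent.LsF.instIMul_eq, Cfsg.Agent.LsF.instIDecEq_eq, Cfsg.Agent.LsF.decide_eq])); decide +kernel)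
  · intro h
    exact absurd h (by decide)

def Eu6 : M7 ℤ := !![0, 0, 0, -1, -1, 1, -1; 0, 0, 0, 0, 0, 0, 0; 0, 0, 0, 0, 1, -1, 1; 1, 0, 0, 0, 0, 0, 0; 0, 0, 0, 0, -1, 0, -1; 0, 0, 1, 0, 0, 0, 0; 0, 0, 0, 0, 1, 0, 0]

private noncomputable def _root_.Cfsg.Agent.LsF.f79201c_14 : {f // @Cfsg.Agent.H621.Zer.Eu6 = f} := ⟨_, by first | (delta Cfsg.Agent.H621.Zer.Eu6; rewrite [Cfsg.Agent.LsF.mof_pat, Cfsg.Agent.LsF.ineg_pat, Cfsg.Agent.LsF.vecCons_eq]; exact rfl) | exact rfl⟩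
include h2 in
theorem Eu6_r1 : ((mm Eu6 Eu6).map (Int.castRingHom F)).rank = 6 :=
  rank_of_cert (Int.castRingHom F) (r := 6)
    !![-1, -2, 0, -6, 3, -4; 0, 0, 0, 0, 0, 0; 1, 0, 0, 5, -2, 3; 0, 0, 2, 0, 0, 0; -1, 0, 0, -4, 0, -2; 2, 0, 1, 0, 0, 0; 1, 0, 0, 2, 0, 0]
    !![0, 0, 1, 0, 0, 0, 0; 0, 0, 0, 1, 0, 0, 0; 1, 0, 0, 0, 0, 0, 0; 0, 0, 0, 0, 1, 0, 0; 0, 0, 0, 0, 0, 1, 0; 0, 0, 0, 0, 0, 0, 1]
    !![0, 0, 0, -2, 0, 4, 0; -4, 0, -6, 0, -1, 0, 1; 0, 0, 0, 4, 0, 0, 0; 0, 0, 0, 1, 0, -2, 4; 0, 0, -4, 0, -6, 0, -2; 0, 0, 0, -1, -4, 2, -8]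
    !![0, 0, 1, 0, 0, 0; 0, 0, 0, 0, 0, 0; 1, 0, 0, 0, 0, 0; 0, 1, 0, 0, 0, 0; 0, 0, 0, 1, 0, 0; 0, 0, 0, 0, 1, 0; 0, 0, 0, 0, 0, 1]
    (a := 8) (b := 1) (c := 1) (two_pow_ne h2 3 (by norm_num)) (two_pow_ne h2 0 (by norm_num)) (two_pow_ne h2 0 (by norm_num))
    (by (refine of_decide_eq_true ?_; (try (rewrite [Cfsg.Agent.LsF.f79201c_2.2, Cfsg.Agent.LsF.f79201c_14.2, Cfsg.Agent.LsF.mof_pat, Cfsg.Agent.LsF.mof_pat, Cfsg.Agent.LsF.ineg_pat, Cfsg.Agent.LsF.vecCons_eq, Cfsg.Agent.LsF.finFintype_eq, Cfsg.Agent.LsF.dMat_eq, Cfsg.Agent.LsF.instMHMul_eq, Cfsg.Agent.LsF.instIDecEq_eq, Cfsg.Agent.LsF.decide_eq])); decide +kernel)) (by decide +kernel) (by decide +kernel)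

include h2 in
theorem Eu6_r2 : ((mm Eu6 Eu6 * GG * mm Eu6 Eu6).map (Int.castRingHom F)).rank = 5 :=
  rank_of_cert (Int.castRingHom F) (r := 5)
    !![-8, 4, -12, -38, -25; 0, 0, 0, 0, 0; 7, 0, 4, 20, 18; 0, 0, 0, 0, 0; -6, 0, 0, -8, -12; 4, 0, 0, 0, 0; 4, 0, 0, 0, 4]
    !![1, 0, 0, 0, 0, 0, 0; 0, 0, 0, 0, 0, 1, 0; 0, 0, 0, 0, 0, 0, 1; 0, 0, 0, 0, 1, 0, 0; 0, 0, 1, 0, 0, 0, 0]
    !![0, 0, 0, 0, 0, 8, 0; 8, 0, 24, 0, 22, -1, 8; 0, 0, 8, 0, 20, -8, 24; 0, 0, 0, 0, -4, 6, -12; 0, 0, 0, 0, 0, -8, 8]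
    !![1, 0, 0, 0, 0; 0, 0, 0, 0, 0; 0, 0, 0, 0, 1; 0, 0, 0, 0, 0; 0, 0, 0, 1, 0; 0, 1, 0, 0, 0; 0, 0, 1, 0, 0]
    (a := 32) (b := 1) (c := 1) (two_pow_ne h2 5 (by norm_num)) (two_pow_ne h2 0 (by norm_num)) (two_pow_ne h2 0 (by norm_num))
    (by (refine of_decide_eq_true ?_; (try (rewrite [Cfsg.Agent.LsF.f79201c_2.2, Cfsg.Agent.LsF.f79201c_14.2, Cfsg.Agent.LsF.f79201c_1.2, Cfsg.Agent.LsF.mof_pat, Cfsg.Agent.LsF.mof_pat, Cfsg.Agent.LsF.ineg_pat, Cfsg.Agent.LsF.vecCons_eq, Cfsg.Agent.LsF.finFintype_eq, Cfsg.Agent.LsF.dMat_eq, Cfsg.Agent.LsF.instMHMul_eq, Cfsg.Agent.LsF.instMMul_eq, Cfsg.Agent.LsF.iACM_eq, Cfsg.Agent.LsF.instIMul_eq, Cfsg.Agent.LsF.instIDecEq_eq, Cfsg.Agent.LsF.decide_eq])); decide +kernel)) (by decide +kernel) (by decide +kernel)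

include D h2 in
theorem Eu6_el {p : ℕ} [CharP F p] (hQ : (polarBilin Q).Nondegenerate) (hn : 3 ≤ Fintype.card ι)
    (hs : ∃ u : ι → F, u ≠ 0 ∧ Q u = 0) : OddEl Q p (6, 5, true) := by
  have hg : D.Good (Int.castRingHom F) Eu6 := by
    have h : Eu6 = (mm Ba (mm Bb Bu2)) := by (refine of_decide_eq_true ?_; (try (rewrite [Cfsg.Agent.LsF.f79201c_14.2, Cfsg.Agent.LsF.f79201c_2.2, Cfsg.Agent.LsF.f79201c_4.2, Cfsg.Agent.LsF.f79201c_5.2, Cfsg.Agent.LsF.f79201c_0.2, Cfsg.Agent.LsF.finFintype_eq, Cfsg.Agent.LsF.dMat_eq, Cfsg.Agent.LsF.instIDecEq_eq, Cfsg.Agent.LsF.decide_eq])); decide +kernel)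
    rw [h]
    exact (Emb.Good.mul (Int.castRingHom F) D (Ba_good D h2) (Emb.Good.mul (Int.castRingHom F) D (Bb_good D h2) (Bu2_good D h2)))
  refine oddEl_of D hQ hn hs Eu6 hg (Eu6_r1 h2) (Eu6_r2 h2) ![0, 0, 0, 1, 0, 0, 0] (by decide +kernel) 0 ?_ ?_ ?_
  · have h : (Eu6 *ᵥ ![0, 0, 0, 1, 0, 0, 0]) 0 = -1 := by decide +kernel
    rw [h]
    rw [show (-1 : ℤ) = -(1) from rfl, map_neg]
    exact neg_ne_zero.2 (two_pow_ne h2 0 (by norm_num))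
  · intro _
    (refine of_decide_eq_true ?_; (try (rewrite [Cfsg.Agent.LsF.f79201c_14.2, Cfsg.Agent.LsF.f79201c_1.2, Cfsg.Agent.LsF.finFintype_eq, Cfsg.Agent.LsF.dMat_eq, Cfsg.Agent.LsF.instMHMul_eq, Cfsg.Agent.LsF.instMMul_eq, Cfsg.Agent.LsF.iACM_eq, Cfsg.Agent.LsF.instIMul_eq, Cfsg.Agent.LsF.instIDecEq_eq, Cfsg.Agent.LsF.decide_eq])); decide +kernel)
  · intro h
    exact absurd h (by decide)

def Em1 : M7 ℤ := !![0, -2, 0, 0, 0, 0, 0; -2, 0, 0, 0, 0, 0, 0; 0, 0, 0, -2, 0, 0, 0; 0, 0, -2, 0, 0, 0, 0; 0, 0, 0, 0, -1, 0, -1; 0, 0, 0, 0, 0, 0, 0; 0, 0, 0, 0, 1, 0, 0]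

include h2 in
theorem Em1_r1 : ((mm Em1 Em1).map (Int.castRingHom F)).rank = 2 :=
  rank_of_cert (Int.castRingHom F) (r := 2)
    !![0, 0; 0, 0; 0, 0; 0, 0; -4, -2; 0, 0; 2, 0]
    !![0, 0, 0, 0, 1, 0, 0; 0, 0, 0, 0, 0, 0, 1]
    !![0, 0, 0, 0, 0, 0, 1; 0, 0, 0, 0, -1, 0, -2]
    !![0, 0; 0, 0; 0, 0; 0, 0; 1, 0; 0, 0; 0, 1]
    (a := 2) (b := 1) (c := 1) (two_pow_ne h2 1 (by norm_num)) (two_pow_ne h2 0 (by norm_num)) (two_pow_ne h2 0 (by norm_num))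
    (by decide +kernel) (by decide +kernel) (by decide +kernel)

private noncomputable def _root_.Cfsg.Agent.LsF.f79201c_15 : {f // @Cfsg.Agent.H621.Zer.Em1 = f} := ⟨_, by first | (delta Cfsg.Agent.H621.Zer.Em1; rewrite [Cfsg.Agent.LsF.mof_pat, Cfsg.Agent.LsF.ineg_pat, Cfsg.Agent.LsF.vecCons_eq]; exact rfl) | exact rfl⟩
include h2 in
theorem Em1_r2 : ((mm Em1 Em1 * GG * mm Em1 Em1).map (Int.castRingHom F)).rank = 1 :=
  rank_of_cert (Int.castRingHom F) (r := 1)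
    !![0; 0; 0; 0; -8; 0; 0]
    !![0, 0, 0, 0, 1, 0, 0]
    !![0, 0, 0, 0, -1, 0, 0]
    !![0; 0; 0; 0; 1; 0; 0]
    (a := 8) (b := 1) (c := 1) (two_pow_ne h2 3 (by norm_num)) (two_pow_ne h2 0 (by norm_num)) (two_pow_ne h2 0 (by norm_num))
    (by (refine of_decide_eq_true ?_; (try (rewrite [Cfsg.Agent.LsF.f79201c_2.2, Cfsg.Agent.LsF.f79201c_15.2, Cfsg.Agent.LsF.f79201c_1.2, Cfsg.Agent.LsF.mof_pat, Cfsg.Agent.LsF.mof_pat, Cfsg.Agent.LsF.ineg_pat, Cfsg.Agent.LsF.vecCons_eq, Cfsg.Agent.LsF.finFintype_eq, Cfsg.Agent.LsF.dMat_eq, Cfsg.Agent.LsF.instMHMul_eq, Cfsg.Agent.LsF.instMMul_eq, Cfsg.Agent.LsF.iACM_eq, Cfsg.Agent.LsF.instIMul_eq, Cfsg.Agent.LsF.instIDecEq_eq, Cfsg.Agent.LsF.decide_eq])); decide +kernel)) (by decide +kernel) (by decide +kernel)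

include D h2 in
theorem Em1_el {p : ℕ} [CharP F p] (hQ : (polarBilin Q).Nondegenerate) (hn : 3 ≤ Fintype.card ι)
    (hs : ∃ u : ι → F, u ≠ 0 ∧ Q u = 0) : OddEl Q p (2, 1, false) := by
  have hg : D.Good (Int.castRingHom F) Em1 := by
    have h : Em1 = (mm BJ Bu2) := by decide +kernel
    rw [h]
    exact (Emb.Good.mul (Int.castRingHom F) D (BJ_good D h2) (Bu2_good D h2))
  refine oddEl_of D hQ hn hs Em1 hg (Em1_r1 h2) (Em1_r2 h2) ![0, 0, 0, 0, 0, 0, 1] (by decide +kernel) 4 ?_ ?_ ?_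
  · have h : (Em1 *ᵥ ![0, 0, 0, 0, 0, 0, 1]) 4 = -1 := by decide +kernel
    rw [h]
    rw [show (-1 : ℤ) = -(1) from rfl, map_neg]
    exact neg_ne_zero.2 (two_pow_ne h2 0 (by norm_num))
  · intro h
    exact absurd h (by decide)
  · intro _
    exact ⟨by decide +kernel, by decide +kernel⟩

def Em3 : M7 ℤ := !![0, -2, 1, 0, 0, 0, 0; -2, 0, 0, 0, 0, 0, 0; -1, 0, 0, -2, 0, 0, 0; 0, 0, -2, 0, 0, 0, 0; 0, 0, 0, 0, -1, 0, -1; 0, 0, 0, 0, 0, 0, 0; 0, 0, 0, 0, 1, 0, 0]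

include h2 in
theorem Em3_r1 : ((mm Em3 Em3).map (Int.castRingHom F)).rank = 4 :=
  rank_of_cert (Int.castRingHom F) (r := 4)
    !![-2, 0, 0, 0; 0, 0, 0, 0; 0, 2, 0, 0; 0, 0, 0, 0; 0, 0, -4, -2; 0, 0, 0, 0; 0, 0, 2, 0]
    !![0, 0, 1, 0, 0, 0, 0; 1, 0, 0, 0, 0, 0, 0; 0, 0, 0, 0, 1, 0, 0; 0, 0, 0, 0, 0, 0, 1]
    !![-1, 0, 0, 0, 0, 0, 0; 0, 0, 1, 0, 0, 0, 0; 0, 0, 0, 0, 0, 0, 1; 0, 0, 0, 0, -1, 0, -2]
    !![0, 1, 0, 0; 0, 0, 0, 0; 1, 0, 0, 0; 0, 0, 0, 0; 0, 0, 1, 0; 0, 0, 0, 0; 0, 0, 0, 1]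
    (a := 2) (b := 1) (c := 1) (two_pow_ne h2 1 (by norm_num)) (two_pow_ne h2 0 (by norm_num)) (two_pow_ne h2 0 (by norm_num))
    (by decide +kernel) (by decide +kernel) (by decide +kernel)

private noncomputable def _root_.Cfsg.Agent.LsF.f79201c_16 : {f // @Cfsg.Agent.H621.Zer.Em3 = f} := ⟨_, by first | (delta Cfsg.Agent.H621.Zer.Em3; rewrite [Cfsg.Agent.LsF.mof_pat, Cfsg.Agent.LsF.ineg_pat, Cfsg.Agent.LsF.vecCons_eq]; exact rfl) | exact rfl⟩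
include h2 in
theorem Em3_r2 : ((mm Em3 Em3 * GG * mm Em3 Em3).map (Int.castRingHom F)).rank = 1 :=
  rank_of_cert (Int.castRingHom F) (r := 1)
    !![0; 0; 0; 0; -8; 0; 0]
    !![0, 0, 0, 0, 1, 0, 0]
    !![0, 0, 0, 0, -1, 0, 0]
    !![0; 0; 0; 0; 1; 0; 0]
    (a := 8) (b := 1) (c := 1) (two_pow_ne h2 3 (by norm_num)) (two_pow_ne h2 0 (by norm_num)) (two_pow_ne h2 0 (by norm_num))
    (by (refine of_decide_eq_true ?_; (try (rewrite [Cfsg.Agent.LsF.f79201c_2.2, Cfsg.Agent.LsF.f79201c_16.2, Cfsg.Agent.LsF.f79201c_1.2, Cfsg.Agent.LsF.mof_pat, Cfsg.Agent.LsF.mof_pat, Cfsg.Agent.LsF.ineg_pat, Cfsg.Agent.LsF.vecCons_eq, Cfsg.Agent.LsF.finFintype_eq, Cfsg.Agent.LsF.dMat_eq, Cfsg.Agent.LsF.instMHMul_eq, Cfsg.Agent.LsF.instMMul_eq, Cfsg.Agent.LsF.iACM_eq, Cfsg.Agent.LsF.instIMul_eq, Cfsg.Agent.LsF.instIDecEq_eq, Cfsg.Agent.LsF.decide_eq])); decide +kernel)) (by decide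 +kernel) (by decide +kernel)

include D h2 in
theorem Em3_el {p : ℕ} [CharP F p] (hQ : (polarBilin Q).Nondegenerate) (hn : 3 ≤ Fintype.card ι)
    (hs : ∃ u : ι → F, u ≠ 0 ∧ Q u = 0) : OddEl Q p (4, 1, false) := by
  have hg : D.Good (Int.castRingHom F) Em3 := by
    have h : Em3 = (mm BJ (mm Bu1 Bu2)) := by (refine of_decide_eq_true ?_; (try (rewrite [Cfsg.Agent.LsF.f79201c_16.2, Cfsg.Agent.LsF.f79201c_2.2, Cfsg.Agent.LsF.f79201c_7.2, Cfsg.Agent.LsF.f79201c_3.2, Cfsg.Agent.LsF.f79201c_0.2, Cfsg.Agent.LsF.finFintype_eq, Cfsg.Agent.LsF.dMat_eq, Cfsg.Agent.LsF.instIDecEq_eq, Cfsg.Agent.LsF.decide_eq])); decide +kernel)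
    rw [h]
    exact (Emb.Good.mul (Int.castRingHom F) D (BJ_good D h2) (Emb.Good.mul (Int.castRingHom F) D (Bu1_good D h2) (Bu2_good D h2)))
  refine oddEl_of D hQ hn hs Em3 hg (Em3_r1 h2) (Em3_r2 h2) ![0, 0, 0, 0, 0, 0, 1] (by decide +kernel) 4 ?_ ?_ ?_
  · have h : (Em3 *ᵥ ![0, 0, 0, 0, 0, 0, 1]) 4 = -1 := by decide +kernel
    rw [h]
    rw [show (-1 : ℤ) = -(1) from rfl, map_neg]
    exact neg_ne_zero.2 (two_pow_ne h2 0 (by norm_num))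
  · intro h
    exact absurd h (by decide)
  · intro _
    exact ⟨by decide +kernel, by decide +kernel⟩

def Em5 : M7 ℤ := !![1, -2, 1, 1, 0, 0, 0; -2, 0, 0, 0, 0, 0, 0; -1, 0, 0, -2, 0, 0, 0; -1, 0, -2, 0, 0, 0, 0; 0, 0, 0, 0, -1, 0, -1; 0, 0, 0, 0, 0, 0, 0; 0, 0, 0, 0, 1, 0, 0]

include h2 in
theorem Em5_r1 : ((mm Em5 Em5).map (Int.castRingHom F)).rank = 4 :=
  rank_of_cert (Int.castRingHom F) (r := 4)
    !![-4, -2, 0, 0; 0, 0, 0, 0; 2, 0, 0, 0; 2, 0, 0, 0; 0, 0, -4, -2; 0, 0, 0, 0; 0, 0, 2, 0]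
    !![1, 0, 0, 0, 0, 0, 0; 0, 0, 1, 1, 0, 0, 0; 0, 0, 0, 0, 1, 0, 0; 0, 0, 0, 0, 0, 0, 1]
    !![0, 0, 1, 0, 0, 0, 0; -1, 0, -2, 0, 0, 0, 0; 0, 0, 0, 0, 0, 0, 1; 0, 0, 0, 0, -1, 0, -2]
    !![1, 0, 0, 0; 0, 0, 0, 0; 0, 1, 0, 0; 0, 0, 0, 0; 0, 0, 1, 0; 0, 0, 0, 0; 0, 0, 0, 1]
    (a := 2) (b := 1) (c := 1) (two_pow_ne h2 1 (by norm_num)) (two_pow_ne h2 0 (by norm_num)) (two_pow_ne h2 0 (by norm_num))
    (by decide +kernel) (by decide +kernel) (by decide +kernel)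

private noncomputable def _root_.Cfsg.Agent.LsF.f79201c_17 : {f // @Cfsg.Agent.H621.Zer.Em5 = f} := ⟨_, by first | (delta Cfsg.Agent.H621.Zer.Em5; rewrite [Cfsg.Agent.LsF.mof_pat, Cfsg.Agent.LsF.ineg_pat, Cfsg.Agent.LsF.vecCons_eq]; exact rfl) | exact rfl⟩
include h2 in
theorem Em5_r2 : ((mm Em5 Em5 * GG * mm Em5 Em5).map (Int.castRingHom F)).rank = 2 :=
  rank_of_cert (Int.castRingHom F) (r := 2)
    !![-8, 0; 0, 0; 0, 0; 0, 0; 0, -8; 0, 0; 0, 0]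
    !![1, 0, 0, 0, 0, 0, 0; 0, 0, 0, 0, 1, 0, 0]
    !![-1, 0, 0, 0, 0, 0, 0; 0, 0, 0, 0, -1, 0, 0]
    !![1, 0; 0, 0; 0, 0; 0, 0; 0, 1; 0, 0; 0, 0]
    (a := 8) (b := 1) (c := 1) (two_pow_ne h2 3 (by norm_num)) (two_pow_ne h2 0 (by norm_num)) (two_pow_ne h2 0 (by norm_num))
    (by (refine of_decide_eq_true ?_; (try (rewrite [Cfsg.Agent.LsF.f79201c_2.2, Cfsg.Agent.LsF.f79201c_17.2, Cfsg.Agent.LsF.f79201c_1.2, Cfsg.Agent.LsF.mof_pat, Cfsg.Agent.LsF.mof_pat, Cfsg.Agent.LsF.ineg_pat, Cfsg.Agent.LsF.vecCons_eq, Cfsg.Agent.LsF.finFintype_eq, Cfsg.Agent.LsF.dMat_eq, Cfsg.Agent.LsF.instMHMul_eq, Cfsg.Agent.LsF.instMMul_eq, Cfsg.Agent.LsF.iACM_eq, Cfsg.Agent.LsF.instIMul_eq, Cfsg.Agent.LsF.instIDecEq_eq, Cfsg.Agent.LsF.decide_eq])); decide +kernel)) (by decide +kernel) (by decide +kernel)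

private noncomputable def _root_.Cfsg.Agent.LsF.f79201c_8 : {f // @Cfsg.Agent.H621.Zer.Bk = f} := ⟨_, by first | (delta Cfsg.Agent.H621.Zer.Bk; rewrite [Cfsg.Agent.LsF.mof_pat, Cfsg.Agent.LsF.ineg_pat, Cfsg.Agent.LsF.vecCons_eq]; exact rfl) | exact rfl⟩
include D h2 in
theorem Em5_el {p : ℕ} [CharP F p] (hQ : (polarBilin Q).Nondegenerate) (hn : 3 ≤ Fintype.card ι)
    (hs : ∃ u : ι → F, u ≠ 0 ∧ Q u = 0) : OddEl Q p (4, 2, false) := by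
  have hg : D.Good (Int.castRingHom F) Em5 := by
    have h : Em5 = (mm BJ (mm Bk Bu2)) := by (refine of_decide_eq_true ?_; (try (rewrite [Cfsg.Agent.LsF.f79201c_17.2, Cfsg.Agent.LsF.f79201c_2.2, Cfsg.Agent.LsF.f79201c_7.2, Cfsg.Agent.LsF.f79201c_8.2, Cfsg.Agent.LsF.f79201c_0.2, Cfsg.Agent.LsF.finFintype_eq, Cfsg.Agent.LsF.dMat_eq, Cfsg.Agent.LsF.instIDecEq_eq, Cfsg.Agent.LsF.decide_eq])); decide +kernel)
    rw [h]
    exact (Emb.Good.mul (Int.castRingHom F) D (BJ_good D h2) (Emb.Good.mul (Int.castRingHom F) D (Bk_good D h2) (Bu2_good D h2)))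
  refine oddEl_of D hQ hn hs Em5 hg (Em5_r1 h2) (Em5_r2 h2) ![0, 0, 0, 0, 0, 0, 1] (by decide +kernel) 4 ?_ ?_ ?_
  · have h : (Em5 *ᵥ ![0, 0, 0, 0, 0, 0, 1]) 4 = -1 := by decide +kernel
    rw [h]
    rw [show (-1 : ℤ) = -(1) from rfl, map_neg]
    exact neg_ne_zero.2 (two_pow_ne h2 0 (by norm_num))
  · intro h
    exact absurd h (by decide)
  · intro _
    exact ⟨by decide +kernel, by decide +kernel⟩

end Elements

theorem big_odd_main {p : ℕ} (hp : p.Prime) [CharP F p] (D : Emb Q) (h2 : (2 : F) ≠ 0)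
    (hQ : (polarBilin Q).Nondegenerate) (hn : 3 ≤ Fintype.card ι) (hs : ∃ u : ι → F, u ≠ 0 ∧ Q u = 0)
    [Finite (Cfsg.POmega F (⇑Q))] [IsSimpleGroup (Cfsg.POmega F (⇑Q))]
    (hL : Cfsg.IsLieTypeChar p (Cfsg.POmega F (⇑Q))) : Cfsg.Agent.H504.Zeros.Big (Cfsg.POmega F (⇑Q)) := by
  refine big_odd_of hp h2 hQ hn hs hL ![(2, 0, true), (2, 1, true), (4, 1, true), (4, 2, true), (4, 3, true), (6, 5, true), (2, 1, false), (4, 1, false), (4, 2, false)] (by decide) ?_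
  intro i
  fin_cases i
  · exact Eu1_el D h2 hQ hn hs
  · exact Eu2_el D h2 hQ hn hs
  · exact Eu3_el D h2 hQ hn hs
  · exact Eu4_el D h2 hQ hn hs
  · exact Eu5_el D h2 hQ hn hs
  · exact Eu6_el D h2 hQ hn hs
  · exact Em1_el D h2 hQ hn hs
  · exact Em3_el D h2 hQ hn hs
  · exact Em5_el D h2 hQ hn hs

end Cfsg.Agent.H621.Zer
end

-- part: H621/Zer/Two
section
/-!
# Nine classes in characteristic two (helper621, for S4895)
-/

set_option autoImplicit false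
set_option linter.unusedSectionVars false

namespace Cfsg.Agent.H621.Zer

open Matrix QuadraticMap Cfsg.Agent.ClassicalGeometry.Reflection

variable {F : Type} [Field F] {ι : Type} [Fintype ι] [DecidableEq ι] {Q : QuadraticForm F (ι → F)}

/-- an element with the given invariants -/
def TwoEl (Q : QuadraticForm F (ι → F)) (t : ℕ × ℕ × ℕ) : Prop :=
  ∃ g : Cfsg.Omega F (⇑Q), 2 ∣ orderOf (QuotientGroup.mk g : Cfsg.POmega F (⇑Q)) ∧
    ((co g - 1) ^ 2).rank = t.1 ∧ ((co g - 1) ^ 3).rank = t.2.1 ∧ (co g ^ 3 - 1).rank = t.2.2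

theorem two_distinct (h2 : (2 : F) = 0) (hQ : (polarBilin Q).Nondegenerate) (hn : 3 ≤ Fintype.card ι)
    (hs : ∃ u : ι → F, u ≠ 0 ∧ Q u = 0) {g h : Cfsg.Omega F (⇑Q)} {s t : ℕ × ℕ × ℕ}
    (hg1 : ((co g - 1) ^ 2).rank = s.1) (hg2 : ((co g - 1) ^ 3).rank = s.2.1) (hg3 : (co g ^ 3 - 1).rank = s.2.2)
    (hh1 : ((co h - 1) ^ 2).rank = t.1) (hh2 : ((co h - 1) ^ 3).rank = t.2.1) (hh3 : (co h ^ 3 - 1).rank = t.2.2)
    (hc : IsConj (QuotientGroup.mk g : Cfsg.POmega F (⇑Q)) (QuotientGroup.mk h)) : s = t := by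
  obtain ⟨P, P', e1, e2, e3⟩ := conj_of_isConj hQ hn hs hc
  have h11 : (-1 : F) = 1 := by linear_combination -h2
  have hneg : ∀ X : Matrix ι ι F, -X = X := fun X => by
    rw [← one_smul F X, ← neg_smul, h11]
  have e4 : co h = P * co g * P' := by
    rcases e3 with e3 | e3
    · exact e3
    · rw [e3, hneg]
  refine Prod.ext ?_ (Prod.ext ?_ ?_)
  · rw [← hg1, ← hh1, e4, conj_sub_one e1, conj_pow e1 e2, rank_conj e2]
  · rw [← hg2, ← hh2, e4, conj_sub_one e1, conj_pow e1 e2, rank_conj e2]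
  · rw [← hg3, ← hh3, e4, conj_pow e1 e2, conj_sub_one e1, rank_conj e2]

theorem big_two_of (h2 : (2 : F) = 0) (hQ : (polarBilin Q).Nondegenerate)
    (hn : 3 ≤ Fintype.card ι) (hs : ∃ u : ι → F, u ≠ 0 ∧ Q u = 0) [Finite (Cfsg.POmega F (⇑Q))]
    [IsSimpleGroup (Cfsg.POmega F (⇑Q))] (hL : Cfsg.IsLieTypeChar 2 (Cfsg.POmega F (⇑Q)))
    (t : Fin 9 → ℕ × ℕ × ℕ) (ht : Function.Injective t) (h : ∀ i, TwoEl Q (t i)) :
    Cfsg.Agent.H504.Zeros.Big (Cfsg.POmega F (⇑Q)) := by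
  choose g h0 h1 h2' h3 using h
  exact big_of_inv Nat.prime_two hL (fun i => (QuotientGroup.mk (g i) : Cfsg.POmega F (⇑Q))) t ht
    (fun i j hc => two_distinct h2 hQ hn hs (h1 i) (h2' i) (h3 i) (h1 j) (h2' j) (h3 j) hc) h0

section Data

variable (D : Emb Q) (φ : ZMod 2 →+* F)

theorem twoEl_of [CharP F 2] (hQ : (polarBilin Q).Nondegenerate) (hn : 3 ≤ Fintype.card ι)
    (hs : ∃ u : ι → F, u ≠ 0 ∧ Q u = 0) {t : ℕ × ℕ × ℕ} (M : M7 (ZMod 2)) (hM : D.Good φ M)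
    (hr1 : ((M * GG * M).map φ).rank = t.1)
    (hr2 : ((M * GG * M * GG * M).map φ).rank = t.2.1)
    (hr3 : ((mm M (mm M M)).map φ).rank = t.2.2)
    (β : Fin 7 → ZMod 2) (h0 : M *ᵥ (GG *ᵥ (M *ᵥ β)) = 0) (k : Fin 7) (hk : (M *ᵥ β) k = 1) :
    TwoEl Q t := by
  obtain ⟨g, hg⟩ := hM
  have hX : co g = D.em (M.map φ) := hg
  have m : ∀ (U V : M7 (ZMod 2)), (U * V).map φ = U.map φ * V.map φ := fun U V => Matrix.map_mul
  have e2 : co g - 1 = D.T * (M.map φ) * D.B := by rw [hX, D.em_sub_one]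
  refine ⟨g, dvd_orderOf φ D hQ hn hs β h0 k (by rw [hk, map_one]; exact one_ne_zero) g hg, ?_, ?_, ?_⟩
  · rw [e2, pow_two, D.TB_mul, D.rank_eq hQ, ← hr1, m, m, GG_map]
  · rw [e2, pow_succ, pow_two, D.TB_mul, D.TB_mul, D.rank_eq hQ, ← hr2, m, m, m, m, GG_map]
  · have e3 : co g ^ 3 - 1 = D.T * ((mm M (mm M M)).map φ) * D.B := by
      rw [hX, pow_succ', pow_two, D.em_mul, D.em_mul, D.em_sub_one, mm_map, mm_map]
    rw [e3, D.rank_eq hQ, hr3]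

end Data

/-! ### The nine elements -/

section Elements

variable (D : Emb Q) (φ : ZMod 2 →+* F)

theorem rank_zero_of' {R : Type} [CommRing R] (φ : R →+* F) {N : M7 R} (h : N = 0) : (N.map φ).rank = 0 := by
  have h1 : (N.map φ) = 0 := by rw [h]; ext i j; simp
  rw [h1, Matrix.rank_zero]

theorem rank_of_cert' {r : ℕ} {N : M7 (ZMod 2)} (X : Matrix (Fin 7) (Fin r) (ZMod 2)) (Y : Matrix (Fin r) (Fin 7) (ZMod 2))
    (L : Matrix (Fin r) (Fin 7) (ZMod 2)) (S : Matrix (Fin 7) (Fin r) (ZMod 2)) (h1 : X * Y = N) (h2 : L * X = 1)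
    (h3 : Y * S = 1) : (N.map φ).rank = r :=
  rank_of_cert φ X Y L S (a := 1) (b := 1) (c := 1) (by rw [map_one]; exact one_ne_zero)
    (by rw [map_one]; exact one_ne_zero) (by rw [map_one]; exact one_ne_zero) (by rw [one_smul, h1])
    (by rw [one_smul, h2]) (by rw [one_smul, h3])

def Z0 : M7 (ZMod 2) := !![0, 0, 0, 0, 0, 0, 0; 0, 0, 0, 0, 0, 0, 0; 0, 0, 0, 0, 0, 0, 0; 0, 0, 0, 0, 0, 0, 0; 0, 0, 0, 0, 1, 0, 1; 0, 0, 0, 0, 0, 0, 0; 0, 0, 0, 0, 1, 0, 0]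

private noncomputable def _root_.Cfsg.Agent.LsF.f79201c_18 : {f // @Cfsg.Agent.H621.Zer.Z0 = f} := ⟨_, by first | (delta Cfsg.Agent.H621.Zer.Z0; rewrite [Cfsg.Agent.LsF.mof_pat, Cfsg.Agent.LsF.vecCons_eq]; exact rfl) | exact rfl⟩
theorem Z0_good (hP : ∀ (u v : ι → F) (hu : Q u ≠ 0) (hv : Q v ≠ 0), Q u = Q v →
    reflIso Q u hu * reflIso Q v hv ∈ Cfsg.Omega F (⇑Q)) : D.Good φ Z0 := by
  have h : Z0 = (mm (Mr ![0, 0, 0, 0, 1, 0, 1]) (Mr ![0, 0, 0, 0, 0, 0, 1])) := by (refine of_decide_eq_true ?_; (try (rewrite [Cfsg.Agent.LsF.f79201c_18.2, Cfsg.Agent.LsF.f79201c_2.2, Cfsg.Agent.LsF.vecCons_eq, Cfsg.Agent.LsF.zdecEq_eq, Cfsg.Agent.LsF.finFintype_eq, Cfsg.Agent.LsF.dMat_eq, Cfsg.Agent.LsF.decide_eq])); decide +kernel)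
  rw [h]
  exact (D.good_pair φ hP ![0, 0, 0, 0, 1, 0, 1] ![0, 0, 0, 0, 0, 0, 1] (by decide) (by decide))

theorem Z0_r1 : ((Z0 * GG * Z0).map φ).rank = 0 :=
  rank_zero_of' φ (by (refine of_decide_eq_true ?_; (try (rewrite [Cfsg.Agent.LsF.f79201c_18.2, Cfsg.Agent.LsF.f79201c_1.2, Cfsg.Agent.LsF.zdecEq_eq, Cfsg.Agent.LsF.finFintype_eq, Cfsg.Agent.LsF.dMat_eq, Cfsg.Agent.LsF.instMHMul_eq, Cfsg.Agent.LsF.instMMul_eq, Cfsg.Agent.LsF.instZMul_pat, Cfsg.Agent.LsF.zACM_pat, Cfsg.Agent.LsF.decide_eq])); decide +kernel))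

theorem Z0_r2 : ((Z0 * GG * Z0 * GG * Z0).map φ).rank = 0 :=
  rank_zero_of' φ (by (refine of_decide_eq_true ?_; (try (rewrite [Cfsg.Agent.LsF.f79201c_18.2, Cfsg.Agent.LsF.f79201c_1.2, Cfsg.Agent.LsF.zdecEq_eq, Cfsg.Agent.LsF.finFintype_eq, Cfsg.Agent.LsF.dMat_eq, Cfsg.Agent.LsF.instMHMul_eq, Cfsg.Agent.LsF.instMMul_eq, Cfsg.Agent.LsF.instZMul_pat, Cfsg.Agent.LsF.zACM_pat, Cfsg.Agent.LsF.decide_eq])); decide +kernel))

theorem Z0_r3 : ((mm Z0 (mm Z0 Z0)).map φ).rank = 2 :=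
  rank_of_cert' φ (r := 2)
    !![0, 0; 0, 0; 0, 0; 0, 0; 1, 1; 0, 0; 1, 0]
    !![0, 0, 0, 0, 1, 0, 0; 0, 0, 0, 0, 0, 0, 1]
    !![0, 0, 0, 0, 0, 0, 1; 0, 0, 0, 0, 1, 0, 1]
    !![0, 0; 0, 0; 0, 0; 0, 0; 1, 0; 0, 0; 0, 1]
    (by (refine of_decide_eq_true ?_; (try (rewrite [Cfsg.Agent.LsF.f79201c_2.2, Cfsg.Agent.LsF.f79201c_18.2, Cfsg.Agent.LsF.mof_pat, Cfsg.Agent.LsF.mof_pat, Cfsg.Agent.LsF.vecCons_eq, Cfsg.Agent.LsF.zdecEq_eq, Cfsg.Agent.LsF.finFintype_eq, Cfsg.Agent.LsF.dMat_eq, Cfsg.Agent.LsF.instMHMul_eq, Cfsg.Agent.LsF.instZMul_pat, Cfsg.Agent.LsF.zACM_pat, Cfsg.Agent.LsF.decide_eq])); decide +kernel)) (by decide +kernel) (by decide +kernel)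

include D φ in
theorem Z0_el [CharP F 2] (hP : ∀ (u v : ι → F) (hu : Q u ≠ 0) (hv : Q v ≠ 0), Q u = Q v →
    reflIso Q u hu * reflIso Q v hv ∈ Cfsg.Omega F (⇑Q)) (hQ : (polarBilin Q).Nondegenerate) (hn : 3 ≤ Fintype.card ι)
    (hs : ∃ u : ι → F, u ≠ 0 ∧ Q u = 0) : TwoEl Q (0, 0, 2) :=
  twoEl_of D φ hQ hn hs Z0 (Z0_good D φ hP) (Z0_r1 φ) (Z0_r2 φ) (Z0_r3 φ) ![0, 0, 0, 0, 0, 0, 1] (by decide +kernel) 4 (by decide +kernel)

def Z1 : M7 (ZMod 2) := !![1, 1, 0, 1, 0, 0, 0; 1, 1, 0, 1, 0, 0, 0; 0, 0, 0, 0, 0, 0, 0; 1, 1, 0, 0, 0, 0, 1; 0, 0, 0, 0, 1, 0, 1; 0, 0, 0, 0, 0, 0, 0; 0, 0, 0, 1, 1, 0, 1]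

private noncomputable def _root_.Cfsg.Agent.LsF.f79201c_19 : {f // @Cfsg.Agent.H621.Zer.Z1 = f} := ⟨_, by first | (delta Cfsg.Agent.H621.Zer.Z1; rewrite [Cfsg.Agent.LsF.mof_pat, Cfsg.Agent.LsF.vecCons_eq]; exact rfl) | exact rfl⟩
theorem Z1_good (hP : ∀ (u v : ι → F) (hu : Q u ≠ 0) (hv : Q v ≠ 0), Q u = Q v →
    reflIso Q u hu * reflIso Q v hv ∈ Cfsg.Omega F (⇑Q)) : D.Good φ Z1 := by
  have h : Z1 = (mm (mm (Mr ![1, 1, 0, 1, 0, 0, 0]) (Mr ![0, 0, 0, 0, 1, 0, 1])) (mm (Mr ![0, 0, 0, 1, 0, 0, 1]) (Mr ![0, 0, 0, 0, 0, 0, 1]))) := by (refine of_decide_eq_true ?_; (try (rewrite [Cfsg.Agent.LsF.f79201c_19.2, Cfsg.Agent.LsF.f79201c_2.2, Cfsg.Agent.LsF.vecCons_eq, Cfsg.Agent.LsF.zdecEq_eq, Cfsg.Agent.LsF.finFintype_eq, Cfsg.Agent.LsF.dMat_eq, Cfsg.Agent.LsF.decide_eq])); decide +kernel)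
  rw [h]
  exact (Emb.Good.mul φ D (D.good_pair φ hP ![1, 1, 0, 1, 0, 0, 0] ![0, 0, 0, 0, 1, 0, 1] (by decide) (by decide)) (D.good_pair φ hP ![0, 0, 0, 1, 0, 0, 1] ![0, 0, 0, 0, 0, 0, 1] (by decide) (by decide)))

theorem Z1_r1 : ((Z1 * GG * Z1).map φ).rank = 0 :=
  rank_zero_of' φ (by (refine of_decide_eq_true ?_; (try (rewrite [Cfsg.Agent.LsF.f79201c_19.2, Cfsg.Agent.LsF.f79201c_1.2, Cfsg.Agent.LsF.zdecEq_eq, Cfsg.Agent.LsF.finFintype_eq, Cfsg.Agent.LsF.dMat_eq, Cfsg.Agent.LsF.instMHMul_eq, Cfsg.Agent.LsF.instMMul_eq, Cfsg.Agent.LsF.instZMul_pat, Cfsg.Agent.LsF.zACM_pat, Cfsg.Agent.LsF.decide_eq])); decide +kernel))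

theorem Z1_r2 : ((Z1 * GG * Z1 * GG * Z1).map φ).rank = 0 :=
  rank_zero_of' φ (by (refine of_decide_eq_true ?_; (try (rewrite [Cfsg.Agent.LsF.f79201c_19.2, Cfsg.Agent.LsF.f79201c_1.2, Cfsg.Agent.LsF.zdecEq_eq, Cfsg.Agent.LsF.finFintype_eq, Cfsg.Agent.LsF.dMat_eq, Cfsg.Agent.LsF.instMHMul_eq, Cfsg.Agent.LsF.instMMul_eq, Cfsg.Agent.LsF.instZMul_pat, Cfsg.Agent.LsF.zACM_pat, Cfsg.Agent.LsF.decide_eq])); decide +kernel))

theorem Z1_r3 : ((mm Z1 (mm Z1 Z1)).map φ).rank = 4 :=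
  rank_of_cert' φ (r := 4)
    !![1, 1, 0, 0; 1, 1, 0, 0; 0, 0, 0, 0; 1, 0, 0, 1; 0, 0, 1, 1; 0, 0, 0, 0; 0, 1, 1, 1]
    !![1, 1, 0, 0, 0, 0, 0; 0, 0, 0, 1, 0, 0, 0; 0, 0, 0, 0, 1, 0, 0; 0, 0, 0, 0, 0, 0, 1]
    !![1, 0, 0, 0, 1, 0, 1; 0, 0, 0, 0, 1, 0, 1; 1, 0, 0, 1, 0, 0, 1; 1, 0, 0, 1, 1, 0, 1]
    !![1, 0, 0, 0; 0, 0, 0, 0; 0, 0, 0, 0; 0, 1, 0, 0; 0, 0, 1, 0; 0, 0, 0, 0; 0, 0, 0, 1]
    (by (refine of_decide_eq_true ?_; (try (rewrite [Cfsg.Agent.LsF.f79201c_2.2, Cfsg.Agent.LsF.f79201c_19.2, Cfsg.Agent.LsF.mof_pat, Cfsg.Agent.LsF.mof_pat, Cfsg.Agent.LsF.vecCons_eq, Cfsg.Agent.LsF.zdecEq_eq, Cfsg.Agent.LsF.finFintype_eq, Cfsg.Agent.LsF.dMat_eq, Cfsg.Agent.LsF.instMHMul_eq, Cfsg.Agent.LsF.instZMul_pat, Cfsg.Agent.LsF.zACM_pat, Cfsg.Agent.LsF.decide_eq])); decide +kernel)) (by decide +kernel) (by decide +kernel)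

include D φ in
theorem Z1_el [CharP F 2] (hP : ∀ (u v : ι → F) (hu : Q u ≠ 0) (hv : Q v ≠ 0), Q u = Q v →
    reflIso Q u hu * reflIso Q v hv ∈ Cfsg.Omega F (⇑Q)) (hQ : (polarBilin Q).Nondegenerate) (hn : 3 ≤ Fintype.card ι)
    (hs : ∃ u : ι → F, u ≠ 0 ∧ Q u = 0) : TwoEl Q (0, 0, 4) :=
  twoEl_of D φ hQ hn hs Z1 (Z1_good D φ hP) (Z1_r1 φ) (Z1_r2 φ) (Z1_r3 φ) ![0, 0, 0, 0, 0, 0, 1] (by decide +kernel) 3 (by decide +kernel)

def Z2 : M7 (ZMod 2) := !![1, 1, 1, 1, 0, 1, 1; 1, 1, 1, 1, 0, 1, 1; 1, 1, 0, 0, 0, 1, 1; 1, 1, 0, 0, 0, 0, 1; 0, 0, 0, 0, 0, 0, 0; 0, 0, 1, 0, 0, 1, 1; 1, 1, 1, 1, 0, 0, 1]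

private noncomputable def _root_.Cfsg.Agent.LsF.f79201c_20 : {f // @Cfsg.Agent.H621.Zer.Z2 = f} := ⟨_, by first | (delta Cfsg.Agent.H621.Zer.Z2; rewrite [Cfsg.Agent.LsF.mof_pat, Cfsg.Agent.LsF.vecCons_eq]; exact rfl) | exact rfl⟩
theorem Z2_good (hP : ∀ (u v : ι → F) (hu : Q u ≠ 0) (hv : Q v ≠ 0), Q u = Q v →
    reflIso Q u hu * reflIso Q v hv ∈ Cfsg.Omega F (⇑Q)) : D.Good φ Z2 := by
  have h : Z2 = (mm (mm (Mr ![0, 0, 1, 0, 0, 0, 1]) (Mr ![1, 1, 0, 1, 0, 0, 0])) (mm (Mr ![0, 0, 0, 1, 0, 0, 1]) (Mr ![0, 0, 1, 0, 0, 1, 1]))) := by (refine of_decide_eq_true ?_; (try (rewrite [Cfsg.Agent.LsF.f79201c_20.2, Cfsg.Agent.LsF.f79201c_2.2, Cfsg.Agent.LsF.vecCons_eq, Cfsg.Agent.LsF.zdecEq_eq, Cfsg.Agent.LsF.finFintype_eq, Cfsg.Agent.LsF.dMat_eq, Cfsg.Agent.LsF.decide_eq])); decide +kernel)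
  rw [h]
  exact (Emb.Good.mul φ D (D.good_pair φ hP ![0, 0, 1, 0, 0, 0, 1] ![1, 1, 0, 1, 0, 0, 0] (by decide) (by decide)) (D.good_pair φ hP ![0, 0, 0, 1, 0, 0, 1] ![0, 0, 1, 0, 0, 1, 1] (by decide) (by decide)))

theorem Z2_r1 : ((Z2 * GG * Z2).map φ).rank = 2 :=
  rank_of_cert' φ (r := 2)
    !![0, 1; 0, 1; 0, 0; 0, 0; 0, 0; 1, 0; 0, 1]
    !![1, 1, 0, 0, 0, 0, 1; 0, 0, 0, 0, 0, 1, 0]
    !![0, 0, 0, 0, 0, 1, 0; 1, 0, 0, 0, 0, 0, 0]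
    !![1, 0; 0, 0; 0, 0; 0, 0; 0, 0; 0, 1; 0, 0]
    (by (refine of_decide_eq_true ?_; (try (rewrite [Cfsg.Agent.LsF.f79201c_20.2, Cfsg.Agent.LsF.f79201c_1.2, Cfsg.Agent.LsF.mof_pat, Cfsg.Agent.LsF.mof_pat, Cfsg.Agent.LsF.vecCons_eq, Cfsg.Agent.LsF.zdecEq_eq, Cfsg.Agent.LsF.finFintype_eq, Cfsg.Agent.LsF.dMat_eq, Cfsg.Agent.LsF.instMHMul_eq, Cfsg.Agent.LsF.instMMul_eq, Cfsg.Agent.LsF.instZMul_pat, Cfsg.Agent.LsF.zACM_pat, Cfsg.Agent.LsF.decide_eq])); decide +kernel)) (by decide +kernel) (by decide +kernel)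

theorem Z2_r2 : ((Z2 * GG * Z2 * GG * Z2).map φ).rank = 0 :=
  rank_zero_of' φ (by (refine of_decide_eq_true ?_; (try (rewrite [Cfsg.Agent.LsF.f79201c_20.2, Cfsg.Agent.LsF.f79201c_1.2, Cfsg.Agent.LsF.zdecEq_eq, Cfsg.Agent.LsF.finFintype_eq, Cfsg.Agent.LsF.dMat_eq, Cfsg.Agent.LsF.instMHMul_eq, Cfsg.Agent.LsF.instMMul_eq, Cfsg.Agent.LsF.instZMul_pat, Cfsg.Agent.LsF.zACM_pat, Cfsg.Agent.LsF.decide_eq])); decide +kernel))

theorem Z2_r3 : ((mm Z2 (mm Z2 Z2)).map φ).rank = 4 :=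
  rank_of_cert' φ (r := 4)
    !![1, 1, 1, 0; 1, 1, 1, 0; 1, 0, 0, 1; 1, 0, 0, 0; 0, 0, 0, 0; 1, 1, 0, 1; 1, 1, 1, 1]
    !![1, 1, 0, 0, 0, 0, 1; 0, 0, 1, 0, 0, 0, 1; 0, 0, 0, 1, 0, 0, 1; 0, 0, 0, 0, 0, 1, 0]
    !![0, 0, 0, 1, 0, 0, 0; 0, 0, 1, 0, 0, 1, 0; 1, 0, 1, 1, 0, 1, 0; 0, 0, 1, 1, 0, 0, 0]
    !![1, 0, 0, 0; 0, 0, 0, 0; 0, 1, 0, 0; 0, 0, 1, 0; 0, 0, 0, 0; 0, 0, 0, 1; 0, 0, 0, 0]
    (by (refine of_decide_eq_true ?_; (try (rewrite [Cfsg.Agent.LsF.f79201c_2.2, Cfsg.Agent.LsF.f79201c_20.2, Cfsg.Agent.LsF.mof_pat, Cfsg.Agent.LsF.mof_pat, Cfsg.Agent.LsF.vecCons_eq, Cfsg.Agent.LsF.zdecEq_eq, Cfsg.Agent.LsF.finFintype_eq, Cfsg.Agent.LsF.dMat_eq, Cfsg.Agent.LsF.instMHMul_eq, Cfsg.Agent.LsF.instZMul_pat, Cfsg.Agent.LsF.zACM_pat, Cfsg.Agent.LsF.decide_eq])); decide +kernel)) (by decide +kernel) (by decide +kernel)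

include D φ in
theorem Z2_el [CharP F 2] (hP : ∀ (u v : ι → F) (hu : Q u ≠ 0) (hv : Q v ≠ 0), Q u = Q v →
    reflIso Q u hu * reflIso Q v hv ∈ Cfsg.Omega F (⇑Q)) (hQ : (polarBilin Q).Nondegenerate) (hn : 3 ≤ Fintype.card ι)
    (hs : ∃ u : ι → F, u ≠ 0 ∧ Q u = 0) : TwoEl Q (2, 0, 4) :=
  twoEl_of D φ hQ hn hs Z2 (Z2_good D φ hP) (Z2_r1 φ) (Z2_r2 φ) (Z2_r3 φ) ![0, 0, 0, 1, 0, 0, 0] (by decide +kernel) 0 (by decide +kernel)

def Z3 : M7 (ZMod 2) := !![1, 0, 0, 0, 0, 0, 1; 0, 0, 0, 1, 0, 0, 0; 0, 0, 0, 0, 0, 0, 0; 1, 1, 0, 1, 0, 0, 0; 0, 0, 0, 0, 0, 0, 0; 0, 0, 0, 0, 0, 0, 0; 1, 0, 0, 1, 0, 0, 0]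

private noncomputable def _root_.Cfsg.Agent.LsF.f79201c_21 : {f // @Cfsg.Agent.H621.Zer.Z3 = f} := ⟨_, by first | (delta Cfsg.Agent.H621.Zer.Z3; rewrite [Cfsg.Agent.LsF.mof_pat, Cfsg.Agent.LsF.vecCons_eq]; exact rfl) | exact rfl⟩
theorem Z3_good (hP : ∀ (u v : ι → F) (hu : Q u ≠ 0) (hv : Q v ≠ 0), Q u = Q v →
    reflIso Q u hu * reflIso Q v hv ∈ Cfsg.Omega F (⇑Q)) : D.Good φ Z3 := by
  have h : Z3 = (mm (mm (Mr ![1, 1, 0, 0, 0, 0, 0]) (Mr ![0, 0, 0, 0, 0, 0, 1])) (mm (Mr ![1, 0, 0, 1, 0, 0, 1]) (Mr ![0, 1, 0, 0, 0, 0, 1]))) := by (refine of_decide_eq_true ?_; (try (rewrite [Cfsg.Agent.LsF.f79201c_21.2, Cfsg.Agent.LsF.f79201c_2.2, Cfsg.Agent.LsF.vecCons_eq, Cfsg.Agent.LsF.zdecEq_eq, Cfsg.Agent.LsF.finFintype_eq, Cfsg.Agent.LsF.dMat_eq, Cfsg.Agent.LsF.decide_eq])); decide +kernel)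
  rw [h]
  exact (Emb.Good.mul φ D (D.good_pair φ hP ![1, 1, 0, 0, 0, 0, 0] ![0, 0, 0, 0, 0, 0, 1] (by decide) (by decide)) (D.good_pair φ hP ![1, 0, 0, 1, 0, 0, 1] ![0, 1, 0, 0, 0, 0, 1] (by decide) (by decide)))

theorem Z3_r1 : ((Z3 * GG * Z3).map φ).rank = 2 :=
  rank_of_cert' φ (r := 2)
    !![0, 1; 0, 0; 0, 0; 1, 1; 0, 0; 0, 0; 0, 1]
    !![1, 0, 0, 0, 0, 0, 1; 0, 0, 0, 1, 0, 0, 0]
    !![1, 0, 0, 1, 0, 0, 0; 1, 0, 0, 0, 0, 0, 0]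
    !![1, 0; 0, 0; 0, 0; 0, 1; 0, 0; 0, 0; 0, 0]
    (by (refine of_decide_eq_true ?_; (try (rewrite [Cfsg.Agent.LsF.f79201c_21.2, Cfsg.Agent.LsF.f79201c_1.2, Cfsg.Agent.LsF.mof_pat, Cfsg.Agent.LsF.mof_pat, Cfsg.Agent.LsF.vecCons_eq, Cfsg.Agent.LsF.zdecEq_eq, Cfsg.Agent.LsF.finFintype_eq, Cfsg.Agent.LsF.dMat_eq, Cfsg.Agent.LsF.instMHMul_eq, Cfsg.Agent.LsF.instMMul_eq, Cfsg.Agent.LsF.instZMul_pat, Cfsg.Agent.LsF.zACM_pat, Cfsg.Agent.LsF.decide_eq])); decide +kernel)) (by decide +kernel) (by decide +kernel)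

theorem Z3_r2 : ((Z3 * GG * Z3 * GG * Z3).map φ).rank = 1 :=
  rank_of_cert' φ (r := 1)
    !![0; 0; 0; 1; 0; 0; 0]
    !![0, 0, 0, 1, 0, 0, 0]
    !![0, 0, 0, 1, 0, 0, 0]
    !![0; 0; 0; 1; 0; 0; 0]
    (by (refine of_decide_eq_true ?_; (try (rewrite [Cfsg.Agent.LsF.f79201c_21.2, Cfsg.Agent.LsF.f79201c_1.2, Cfsg.Agent.LsF.mof_pat, Cfsg.Agent.LsF.mof_pat, Cfsg.Agent.LsF.vecCons_eq, Cfsg.Agent.LsF.zdecEq_eq, Cfsg.Agent.LsF.finFintype_eq, Cfsg.Agent.LsF.dMat_eq, Cfsg.Agent.LsF.instMHMul_eq, Cfsg.Agent.LsF.instMMul_eq, Cfsg.Agent.LsF.instZMul_pat, Cfsg.Agent.LsF.zACM_pat, Cfsg.Agent.LsF.decide_eq])); decide +kernel)) (by decide +kernel) (by decide +kernel)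

theorem Z3_r3 : ((mm Z3 (mm Z3 Z3)).map φ).rank = 4 :=
  rank_of_cert' φ (r := 4)
    !![1, 0, 1, 1; 0, 0, 1, 0; 0, 0, 0, 0; 0, 1, 1, 1; 0, 0, 0, 0; 0, 0, 0, 0; 1, 0, 0, 0]
    !![1, 0, 0, 0, 0, 0, 0; 0, 1, 0, 0, 0, 0, 0; 0, 0, 0, 1, 0, 0, 0; 0, 0, 0, 0, 0, 0, 1]
    !![0, 0, 0, 0, 0, 0, 1; 1, 0, 0, 1, 0, 0, 1; 0, 1, 0, 0, 0, 0, 0; 1, 1, 0, 0, 0, 0, 1]
    !![1, 0, 0, 0; 0, 1, 0, 0; 0, 0, 0, 0; 0, 0, 1, 0; 0, 0, 0, 0; 0, 0, 0, 0; 0, 0, 0, 1]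
    (by (refine of_decide_eq_true ?_; (try (rewrite [Cfsg.Agent.LsF.f79201c_2.2, Cfsg.Agent.LsF.f79201c_21.2, Cfsg.Agent.LsF.mof_pat, Cfsg.Agent.LsF.mof_pat, Cfsg.Agent.LsF.vecCons_eq, Cfsg.Agent.LsF.zdecEq_eq, Cfsg.Agent.LsF.finFintype_eq, Cfsg.Agent.LsF.dMat_eq, Cfsg.Agent.LsF.instMHMul_eq, Cfsg.Agent.LsF.instZMul_pat, Cfsg.Agent.LsF.zACM_pat, Cfsg.Agent.LsF.decide_eq])); decide +kernel)) (by decide +kernel) (by decide +kernel)

include D φ in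
theorem Z3_el [CharP F 2] (hP : ∀ (u v : ι → F) (hu : Q u ≠ 0) (hv : Q v ≠ 0), Q u = Q v →
    reflIso Q u hu * reflIso Q v hv ∈ Cfsg.Omega F (⇑Q)) (hQ : (polarBilin Q).Nondegenerate) (hn : 3 ≤ Fintype.card ι)
    (hs : ∃ u : ι → F, u ≠ 0 ∧ Q u = 0) : TwoEl Q (2, 1, 4) :=
  twoEl_of D φ hQ hn hs Z3 (Z3_good D φ hP) (Z3_r1 φ) (Z3_r2 φ) (Z3_r3 φ) ![0, 1, 0, 0, 0, 0, 0] (by decide +kernel) 3 (by decide +kernel)

def Z4 : M7 (ZMod 2) := !![0, 0, 0, 0, 0, 0, 0; 0, 1, 0, 0, 0, 0, 1; 0, 0, 0, 0, 0, 0, 0; 0, 0, 0, 0, 0, 0, 0; 0, 0, 0, 0, 1, 1, 0; 0, 0, 0, 0, 0, 1, 1; 0, 1, 0, 0, 1, 0, 1]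

private noncomputable def _root_.Cfsg.Agent.LsF.f79201c_22 : {f // @Cfsg.Agent.H621.Zer.Z4 = f} := ⟨_, by first | (delta Cfsg.Agent.H621.Zer.Z4; rewrite [Cfsg.Agent.LsF.mof_pat, Cfsg.Agent.LsF.vecCons_eq]; exact rfl) | exact rfl⟩
theorem Z4_good (hP : ∀ (u v : ι → F) (hu : Q u ≠ 0) (hv : Q v ≠ 0), Q u = Q v →
    reflIso Q u hu * reflIso Q v hv ∈ Cfsg.Omega F (⇑Q)) : D.Good φ Z4 := by
  have h : Z4 = (mm (mm (Mr ![0, 0, 0, 0, 1, 1, 0]) (Mr ![0, 0, 0, 0, 0, 0, 1])) (mm (Mr ![0, 1, 0, 0, 0, 0, 1]) (Mr ![0, 0, 0, 0, 1, 0, 1]))) := by (refine of_decide_eq_true ?_; (try (rewrite [Cfsg.Agent.LsF.f79201c_22.2, Cfsg.Agent.LsF.f79201c_2.2, Cfsg.Agent.LsF.vecCons_eq, Cfsg.Agent.LsF.zdecEq_eq, Cfsg.Agent.LsF.finFintype_eq, Cfsg.Agent.LsF.dMat_eq, Cfsg.Agent.LsF.decide_eq])); decide +kernel)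
  rw [h]
  exact (Emb.Good.mul φ D (D.good_pair φ hP ![0, 0, 0, 0, 1, 1, 0] ![0, 0, 0, 0, 0, 0, 1] (by decide) (by decide)) (D.good_pair φ hP ![0, 1, 0, 0, 0, 0, 1] ![0, 0, 0, 0, 1, 0, 1] (by decide) (by decide)))

theorem Z4_r1 : ((Z4 * GG * Z4).map φ).rank = 2 :=
  rank_of_cert' φ (r := 2)
    !![0, 0; 0, 0; 0, 0; 0, 0; 1, 0; 1, 1; 0, 1]
    !![0, 0, 0, 0, 1, 0, 1; 0, 0, 0, 0, 0, 1, 1]
    !![0, 0, 0, 0, 1, 0, 0; 0, 0, 0, 0, 1, 1, 0]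
    !![0, 0; 0, 0; 0, 0; 0, 0; 1, 0; 0, 1; 0, 0]
    (by (refine of_decide_eq_true ?_; (try (rewrite [Cfsg.Agent.LsF.f79201c_22.2, Cfsg.Agent.LsF.f79201c_1.2, Cfsg.Agent.LsF.mof_pat, Cfsg.Agent.LsF.mof_pat, Cfsg.Agent.LsF.vecCons_eq, Cfsg.Agent.LsF.zdecEq_eq, Cfsg.Agent.LsF.finFintype_eq, Cfsg.Agent.LsF.dMat_eq, Cfsg.Agent.LsF.instMHMul_eq, Cfsg.Agent.LsF.instMMul_eq, Cfsg.Agent.LsF.instZMul_pat, Cfsg.Agent.LsF.zACM_pat, Cfsg.Agent.LsF.decide_eq])); decide +kernel)) (by decide +kernel) (by decide +kernel)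

theorem Z4_r2 : ((Z4 * GG * Z4 * GG * Z4).map φ).rank = 2 :=
  rank_of_cert' φ (r := 2)
    !![0, 0; 0, 0; 0, 0; 0, 0; 0, 1; 1, 0; 1, 1]
    !![0, 0, 0, 0, 1, 0, 1; 0, 0, 0, 0, 0, 1, 1]
    !![0, 0, 0, 0, 0, 1, 0; 0, 0, 0, 0, 1, 0, 0]
    !![0, 0; 0, 0; 0, 0; 0, 0; 1, 0; 0, 1; 0, 0]
    (by (refine of_decide_eq_true ?_; (try (rewrite [Cfsg.Agent.LsF.f79201c_22.2, Cfsg.Agent.LsF.f79201c_1.2, Cfsg.Agent.LsF.mof_pat, Cfsg.Agent.LsF.mof_pat, Cfsg.Agent.LsF.vecCons_eq, Cfsg.Agent.LsF.zdecEq_eq, Cfsg.Agent.LsF.finFintype_eq, Cfsg.Agent.LsF.dMat_eq, Cfsg.Agent.LsF.instMHMul_eq, Cfsg.Agent.LsF.instMMul_eq, Cfsg.Agent.LsF.instZMul_pat, Cfsg.Agent.LsF.zACM_pat, Cfsg.Agent.LsF.decide_eq])); decide +kernel)) (by decide +kernel) (by decide +kernel)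

theorem Z4_r3 : ((mm Z4 (mm Z4 Z4)).map φ).rank = 2 :=
  rank_of_cert' φ (r := 2)
    !![0, 0; 1, 1; 0, 0; 0, 0; 0, 0; 0, 0; 1, 0]
    !![0, 1, 0, 0, 0, 0, 0; 0, 0, 0, 0, 0, 0, 1]
    !![0, 0, 0, 0, 0, 0, 1; 0, 1, 0, 0, 0, 0, 1]
    !![0, 0; 1, 0; 0, 0; 0, 0; 0, 0; 0, 0; 0, 1]
    (by (refine of_decide_eq_true ?_; (try (rewrite [Cfsg.Agent.LsF.f79201c_2.2, Cfsg.Agent.LsF.f79201c_22.2, Cfsg.Agent.LsF.mof_pat, Cfsg.Agent.LsF.mof_pat, Cfsg.Agent.LsF.vecCons_eq, Cfsg.Agent.LsF.zdecEq_eq, Cfsg.Agent.LsF.finFintype_eq, Cfsg.Agent.LsF.dMat_eq, Cfsg.Agent.LsF.instMHMul_eq, Cfsg.Agent.LsF.instZMul_pat, Cfsg.Agent.LsF.zACM_pat, Cfsg.Agent.LsF.decide_eq])); decide +kernel)) (by decide +kernel) (by decide +kernel)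

include D φ in
theorem Z4_el [CharP F 2] (hP : ∀ (u v : ι → F) (hu : Q u ≠ 0) (hv : Q v ≠ 0), Q u = Q v →
    reflIso Q u hu * reflIso Q v hv ∈ Cfsg.Omega F (⇑Q)) (hQ : (polarBilin Q).Nondegenerate) (hn : 3 ≤ Fintype.card ι)
    (hs : ∃ u : ι → F, u ≠ 0 ∧ Q u = 0) : TwoEl Q (2, 2, 2) :=
  twoEl_of D φ hQ hn hs Z4 (Z4_good D φ hP) (Z4_r1 φ) (Z4_r2 φ) (Z4_r3 φ) ![0, 1, 0, 0, 0, 0, 0] (by decide +kernel) 1 (by decide +kernel)

def Z5 : M7 (ZMod 2) := !![0, 0, 1, 1, 0, 0, 1; 0, 0, 1, 1, 0, 0, 1; 0, 0, 1, 0, 0, 0, 1; 1, 1, 1, 1, 0, 0, 1; 0, 0, 0, 0, 1, 1, 0; 0, 0, 0, 0, 0, 1, 1; 0, 0, 1, 0, 1, 0, 1]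

private noncomputable def _root_.Cfsg.Agent.LsF.f79201c_23 : {f // @Cfsg.Agent.H621.Zer.Z5 = f} := ⟨_, by first | (delta Cfsg.Agent.H621.Zer.Z5; rewrite [Cfsg.Agent.LsF.mof_pat, Cfsg.Agent.LsF.vecCons_eq]; exact rfl) | exact rfl⟩
theorem Z5_good (hP : ∀ (u v : ι → F) (hu : Q u ≠ 0) (hv : Q v ≠ 0), Q u = Q v →
    reflIso Q u hu * reflIso Q v hv ∈ Cfsg.Omega F (⇑Q)) : D.Good φ Z5 := by
  have h : Z5 = (mm (mm (Mr ![1, 1, 1, 1, 0, 0, 1]) (Mr ![0, 0, 0, 0, 1, 1, 0])) (mm (mm (Mr ![1, 1, 0, 1, 0, 0, 0]) (Mr ![1, 1, 0, 0, 0, 0, 0])) (mm (Mr ![0, 0, 0, 0, 0, 0, 1]) (Mr ![0, 0, 0, 0, 1, 0, 1])))) := by (refine of_decide_eq_true ?_; (try (rewrite [Cfsg.Agent.LsF.f79201c_23.2, Cfsg.Agent.LsF.f79201c_2.2, Cfsg.Agent.LsF.vecCons_eq, Cfsg.Agent.LsF.zdecEq_eq, Cfsg.Agent.LsF.finFintype_eq, Cfsg.Agent.LsF.dMat_eq, Cfsg.Agent.LsF.decide_eq])); decide +kernel)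
  rw [h]
  exact (Emb.Good.mul φ D (D.good_pair φ hP ![1, 1, 1, 1, 0, 0, 1] ![0, 0, 0, 0, 1, 1, 0] (by decide) (by decide)) (Emb.Good.mul φ D (D.good_pair φ hP ![1, 1, 0, 1, 0, 0, 0] ![1, 1, 0, 0, 0, 0, 0] (by decide) (by decide)) (D.good_pair φ hP ![0, 0, 0, 0, 0, 0, 1] ![0, 0, 0, 0, 1, 0, 1] (by decide) (by decide))))

theorem Z5_r1 : ((Z5 * GG * Z5).map φ).rank = 4 :=
  rank_of_cert' φ (r := 4)
    !![1, 0, 0, 0; 1, 0, 0, 0; 1, 1, 0, 0; 1, 0, 0, 0; 0, 0, 1, 0; 0, 0, 1, 1; 1, 1, 0, 1]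
    !![1, 1, 0, 1, 0, 0, 0; 0, 0, 1, 0, 0, 0, 1; 0, 0, 0, 0, 1, 0, 1; 0, 0, 0, 0, 0, 1, 1]
    !![1, 0, 0, 0, 0, 0, 0; 1, 0, 1, 0, 0, 0, 0; 0, 0, 0, 0, 1, 0, 0; 0, 0, 0, 0, 1, 1, 0]
    !![1, 0, 0, 0; 0, 0, 0, 0; 0, 1, 0, 0; 0, 0, 0, 0; 0, 0, 1, 0; 0, 0, 0, 1; 0, 0, 0, 0]
    (by (refine of_decide_eq_true ?_; (try (rewrite [Cfsg.Agent.LsF.f79201c_23.2, Cfsg.Agent.LsF.f79201c_1.2, Cfsg.Agent.LsF.mof_pat, Cfsg.Agent.LsF.mof_pat, Cfsg.Agent.LsF.vecCons_eq, Cfsg.Agent.LsF.zdecEq_eq, Cfsg.Agent.LsF.finFintype_eq, Cfsg.Agent.LsF.dMat_eq, Cfsg.Agent.LsF.instMHMul_eq, Cfsg.Agent.LsF.instMMul_eq, Cfsg.Agent.LsF.instZMul_pat, Cfsg.Agent.LsF.zACM_pat, Cfsg.Agent.LsF.decide_eq])); decide +kernel)) (by decide +kernel) (by decide +kernel)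

theorem Z5_r2 : ((Z5 * GG * Z5 * GG * Z5).map φ).rank = 4 :=
  rank_of_cert' φ (r := 4)
    !![0, 1, 0, 0; 0, 1, 0, 0; 1, 0, 0, 0; 0, 1, 0, 0; 0, 0, 0, 1; 0, 0, 1, 0; 1, 0, 1, 1]
    !![1, 1, 0, 1, 0, 0, 0; 0, 0, 1, 0, 0, 0, 1; 0, 0, 0, 0, 1, 0, 1; 0, 0, 0, 0, 0, 1, 1]
    !![0, 0, 1, 0, 0, 0, 0; 1, 0, 0, 0, 0, 0, 0; 0, 0, 0, 0, 0, 1, 0; 0, 0, 0, 0, 1, 0, 0]
    !![1, 0, 0, 0; 0, 0, 0, 0; 0, 1, 0, 0; 0, 0, 0, 0; 0, 0, 1, 0; 0, 0, 0, 1; 0, 0, 0, 0]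
    (by (refine of_decide_eq_true ?_; (try (rewrite [Cfsg.Agent.LsF.f79201c_23.2, Cfsg.Agent.LsF.f79201c_1.2, Cfsg.Agent.LsF.mof_pat, Cfsg.Agent.LsF.mof_pat, Cfsg.Agent.LsF.vecCons_eq, Cfsg.Agent.LsF.zdecEq_eq, Cfsg.Agent.LsF.finFintype_eq, Cfsg.Agent.LsF.dMat_eq, Cfsg.Agent.LsF.instMHMul_eq, Cfsg.Agent.LsF.instMMul_eq, Cfsg.Agent.LsF.instZMul_pat, Cfsg.Agent.LsF.zACM_pat, Cfsg.Agent.LsF.decide_eq])); decide +kernel)) (by decide +kernel) (by decide +kernel)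

theorem Z5_r3 : ((mm Z5 (mm Z5 Z5)).map φ).rank = 2 :=
  rank_of_cert' φ (r := 2)
    !![1, 0; 1, 0; 0, 0; 0, 0; 0, 0; 0, 0; 0, 1]
    !![1, 1, 0, 0, 0, 0, 0; 0, 0, 0, 0, 0, 0, 1]
    !![1, 0, 0, 0, 0, 0, 0; 0, 0, 0, 0, 0, 0, 1]
    !![1, 0; 0, 0; 0, 0; 0, 0; 0, 0; 0, 0; 0, 1]
    (by (refine of_decide_eq_true ?_; (try (rewrite [Cfsg.Agent.LsF.f79201c_2.2, Cfsg.Agent.LsF.f79201c_23.2, Cfsg.Agent.LsF.mof_pat, Cfsg.Agent.LsF.mof_pat, Cfsg.Agent.LsF.vecCons_eq, Cfsg.Agent.LsF.zdecEq_eq, Cfsg.Agent.LsF.finFintype_eq, Cfsg.Agent.LsF.dMat_eq, Cfsg.Agent.LsF.instMHMul_eq, Cfsg.Agent.LsF.instZMul_pat, Cfsg.Agent.LsF.zACM_pat, Cfsg.Agent.LsF.decide_eq])); decide +kernel)) (by decide +kernel) (by decide +kernel)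

include D φ in
theorem Z5_el [CharP F 2] (hP : ∀ (u v : ι → F) (hu : Q u ≠ 0) (hv : Q v ≠ 0), Q u = Q v →
    reflIso Q u hu * reflIso Q v hv ∈ Cfsg.Omega F (⇑Q)) (hQ : (polarBilin Q).Nondegenerate) (hn : 3 ≤ Fintype.card ι)
    (hs : ∃ u : ι → F, u ≠ 0 ∧ Q u = 0) : TwoEl Q (4, 4, 2) :=
  twoEl_of D φ hQ hn hs Z5 (Z5_good D φ hP) (Z5_r1 φ) (Z5_r2 φ) (Z5_r3 φ) ![0, 1, 0, 1, 0, 0, 0] (by decide +kernel) 0 (by decide +kernel)

def Z6 : M7 (ZMod 2) := !![1, 0, 0, 0, 0, 1, 1; 0, 0, 0, 0, 0, 1, 0; 0, 0, 1, 0, 0, 0, 1; 0, 0, 0, 0, 0, 0, 0; 0, 1, 0, 0, 1, 1, 0; 0, 0, 0, 0, 1, 1, 0; 1, 0, 1, 0, 0, 1, 1]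

private noncomputable def _root_.Cfsg.Agent.LsF.f79201c_24 : {f // @Cfsg.Agent.H621.Zer.Z6 = f} := ⟨_, by first | (delta Cfsg.Agent.H621.Zer.Z6; rewrite [Cfsg.Agent.LsF.mof_pat, Cfsg.Agent.LsF.vecCons_eq]; exact rfl) | exact rfl⟩
theorem Z6_good (hP : ∀ (u v : ι → F) (hu : Q u ≠ 0) (hv : Q v ≠ 0), Q u = Q v →
    reflIso Q u hu * reflIso Q v hv ∈ Cfsg.Omega F (⇑Q)) : D.Good φ Z6 := by
  have h : Z6 = (mm (mm (Mr ![0, 0, 0, 0, 1, 1, 0]) (Mr ![1, 1, 0, 0, 0, 0, 0])) (mm (mm (Mr ![0, 0, 1, 0, 0, 0, 1]) (Mr ![1, 1, 0, 0, 0, 1, 0])) (mm (Mr ![1, 0, 0, 0, 0, 0, 1]) (Mr ![0, 0, 0, 0, 0, 1, 1])))) := by (refine of_decide_eq_true ?_; (try (rewrite [Cfsg.Agent.LsF.f79201c_24.2, Cfsg.Agent.LsF.f79201c_2.2, Cfsg.Agent.LsF.vecCons_eq, Cfsg.Agent.LsF.zdecEq_eq, Cfsg.Agent.LsF.finFintype_eq, Cfsg.Agent.LsF.dMat_eq, Cfsg.Agent.LsF.decide_eq])); decide +kernel)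
  rw [h]
  exact (Emb.Good.mul φ D (D.good_pair φ hP ![0, 0, 0, 0, 1, 1, 0] ![1, 1, 0, 0, 0, 0, 0] (by decide) (by decide)) (Emb.Good.mul φ D (D.good_pair φ hP ![0, 0, 1, 0, 0, 0, 1] ![1, 1, 0, 0, 0, 1, 0] (by decide) (by decide)) (D.good_pair φ hP ![1, 0, 0, 0, 0, 0, 1] ![0, 0, 0, 0, 0, 1, 1] (by decide) (by decide))))

theorem Z6_r1 : ((Z6 * GG * Z6).map φ).rank = 4 :=
  rank_of_cert' φ (r := 4)
    !![0, 1, 1, 0; 0, 1, 1, 1; 0, 0, 0, 0; 0, 0, 0, 0; 1, 1, 0, 1; 0, 1, 0, 0; 0, 1, 1, 0]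
    !![1, 0, 0, 0, 0, 0, 1; 0, 1, 0, 0, 0, 0, 0; 0, 0, 0, 0, 1, 0, 0; 0, 0, 0, 0, 0, 1, 0]
    !![1, 1, 0, 0, 1, 1, 0; 0, 0, 0, 0, 0, 1, 0; 1, 0, 0, 0, 0, 1, 0; 1, 1, 0, 0, 0, 0, 0]
    !![1, 0, 0, 0; 0, 1, 0, 0; 0, 0, 0, 0; 0, 0, 0, 0; 0, 0, 1, 0; 0, 0, 0, 1; 0, 0, 0, 0]
    (by (refine of_decide_eq_true ?_; (try (rewrite [Cfsg.Agent.LsF.f79201c_24.2, Cfsg.Agent.LsF.f79201c_1.2, Cfsg.Agent.LsF.mof_pat, Cfsg.Agent.LsF.mof_pat, Cfsg.Agent.LsF.vecCons_eq, Cfsg.Agent.LsF.zdecEq_eq, Cfsg.Agent.LsF.finFintype_eq, Cfsg.Agent.LsF.dMat_eq, Cfsg.Agent.LsF.instMHMul_eq, Cfsg.Agent.LsF.instMMul_eq, Cfsg.Agent.LsF.instZMul_pat, Cfsg.Agent.LsF.zACM_pat, Cfsg.Agent.LsF.decide_eq])); decide +kernel)) (by decide +kernel) (by decide +kernel)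

theorem Z6_r2 : ((Z6 * GG * Z6 * GG * Z6).map φ).rank = 4 :=
  rank_of_cert' φ (r := 4)
    !![1, 0, 1, 0; 1, 1, 0, 1; 0, 0, 0, 0; 0, 0, 0, 0; 1, 1, 1, 1; 1, 0, 0, 1; 1, 0, 1, 0]
    !![1, 0, 0, 0, 0, 0, 1; 0, 1, 0, 0, 0, 0, 0; 0, 0, 0, 0, 1, 0, 0; 0, 0, 0, 0, 0, 1, 0]
    !![1, 1, 0, 0, 1, 0, 0; 0, 1, 0, 0, 0, 1, 0; 0, 1, 0, 0, 1, 0, 0; 1, 1, 0, 0, 1, 1, 0]
    !![1, 0, 0, 0; 0, 1, 0, 0; 0, 0, 0, 0; 0, 0, 0, 0; 0, 0, 1, 0; 0, 0, 0, 1; 0, 0, 0, 0]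
    (by (refine of_decide_eq_true ?_; (try (rewrite [Cfsg.Agent.LsF.f79201c_24.2, Cfsg.Agent.LsF.f79201c_1.2, Cfsg.Agent.LsF.mof_pat, Cfsg.Agent.LsF.mof_pat, Cfsg.Agent.LsF.vecCons_eq, Cfsg.Agent.LsF.zdecEq_eq, Cfsg.Agent.LsF.finFintype_eq, Cfsg.Agent.LsF.dMat_eq, Cfsg.Agent.LsF.instMHMul_eq, Cfsg.Agent.LsF.instMMul_eq, Cfsg.Agent.LsF.instZMul_pat, Cfsg.Agent.LsF.zACM_pat, Cfsg.Agent.LsF.decide_eq])); decide +kernel)) (by decide +kernel) (by decide +kernel)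

theorem Z6_r3 : ((mm Z6 (mm Z6 Z6)).map φ).rank = 4 :=
  rank_of_cert' φ (r := 4)
    !![0, 1, 0, 0; 1, 0, 0, 1; 0, 0, 1, 1; 0, 0, 0, 0; 0, 1, 0, 0; 1, 1, 0, 1; 0, 1, 1, 0]
    !![1, 0, 0, 0, 1, 1, 0; 0, 1, 0, 0, 0, 1, 0; 0, 0, 1, 0, 0, 0, 0; 0, 0, 0, 0, 0, 0, 1]
    !![1, 1, 1, 0, 0, 0, 1; 1, 0, 0, 0, 0, 0, 0; 1, 0, 0, 0, 0, 0, 1; 1, 0, 1, 0, 0, 0, 1]
    !![1, 0, 0, 0; 0, 1, 0, 0; 0, 0, 1, 0; 0, 0, 0, 0; 0, 0, 0, 0; 0, 0, 0, 0; 0, 0, 0, 1]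
    (by (refine of_decide_eq_true ?_; (try (rewrite [Cfsg.Agent.LsF.f79201c_2.2, Cfsg.Agent.LsF.f79201c_24.2, Cfsg.Agent.LsF.mof_pat, Cfsg.Agent.LsF.mof_pat, Cfsg.Agent.LsF.vecCons_eq, Cfsg.Agent.LsF.zdecEq_eq, Cfsg.Agent.LsF.finFintype_eq, Cfsg.Agent.LsF.dMat_eq, Cfsg.Agent.LsF.instMHMul_eq, Cfsg.Agent.LsF.instZMul_pat, Cfsg.Agent.LsF.zACM_pat, Cfsg.Agent.LsF.decide_eq])); decide +kernel)) (by decide +kernel) (by decide +kernel)

include D φ in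
theorem Z6_el [CharP F 2] (hP : ∀ (u v : ι → F) (hu : Q u ≠ 0) (hv : Q v ≠ 0), Q u = Q v →
    reflIso Q u hu * reflIso Q v hv ∈ Cfsg.Omega F (⇑Q)) (hQ : (polarBilin Q).Nondegenerate) (hn : 3 ≤ Fintype.card ι)
    (hs : ∃ u : ι → F, u ≠ 0 ∧ Q u = 0) : TwoEl Q (4, 4, 4) :=
  twoEl_of D φ hQ hn hs Z6 (Z6_good D φ hP) (Z6_r1 φ) (Z6_r2 φ) (Z6_r3 φ) ![0, 0, 1, 0, 0, 0, 0] (by decide +kernel) 2 (by decide +kernel)

def Z7 : M7 (ZMod 2) := !![1, 1, 1, 1, 0, 0, 1; 0, 1, 0, 0, 0, 0, 1; 0, 0, 1, 0, 0, 0, 1; 1, 1, 1, 1, 1, 0, 1; 0, 0, 1, 1, 1, 0, 0; 0, 0, 0, 0, 0, 0, 0; 1, 0, 0, 1, 1, 0, 0]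

private noncomputable def _root_.Cfsg.Agent.LsF.f79201c_25 : {f // @Cfsg.Agent.H621.Zer.Z7 = f} := ⟨_, by first | (delta Cfsg.Agent.H621.Zer.Z7; rewrite [Cfsg.Agent.LsF.mof_pat, Cfsg.Agent.LsF.vecCons_eq]; exact rfl) | exact rfl⟩
theorem Z7_good (hP : ∀ (u v : ι → F) (hu : Q u ≠ 0) (hv : Q v ≠ 0), Q u = Q v →
    reflIso Q u hu * reflIso Q v hv ∈ Cfsg.Omega F (⇑Q)) : D.Good φ Z7 := by
  have h : Z7 = (mm (mm (Mr ![0, 0, 1, 0, 0, 0, 1]) (Mr ![1, 0, 1, 1, 0, 0, 0])) (mm (mm (Mr ![0, 1, 0, 0, 0, 0, 1]) (Mr ![0, 0, 1, 1, 1, 0, 0])) (mm (Mr ![0, 0, 0, 0, 0, 0, 1]) (Mr ![0, 0, 1, 1, 0, 0, 0])))) := by (refine of_decide_eq_true ?_; (try (rewrite [Cfsg.Agent.LsF.f79201c_25.2, Cfsg.Agent.LsF.f79201c_2.2, Cfsg.Agent.LsF.vecCons_eq, Cfsg.Agent.LsF.zdecEq_eq, Cfsg.Agent.LsF.finFintype_eq, Cfsg.Agent.LsF.dMat_eq, Cfsg.Agent.LsF.decide_eq])); decide +kernel)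
  rw [h]
  exact (Emb.Good.mul φ D (D.good_pair φ hP ![0, 0, 1, 0, 0, 0, 1] ![1, 0, 1, 1, 0, 0, 0] (by decide) (by decide)) (Emb.Good.mul φ D (D.good_pair φ hP ![0, 1, 0, 0, 0, 0, 1] ![0, 0, 1, 1, 1, 0, 0] (by decide) (by decide)) (D.good_pair φ hP ![0, 0, 0, 0, 0, 0, 1] ![0, 0, 1, 1, 0, 0, 0] (by decide) (by decide))))

theorem Z7_r1 : ((Z7 * GG * Z7).map φ).rank = 4 :=
  rank_of_cert' φ (r := 4)
    !![0, 1, 1, 1; 1, 1, 1, 0; 1, 1, 1, 1; 0, 1, 1, 1; 1, 1, 0, 1; 0, 0, 0, 0; 0, 1, 1, 0]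
    !![1, 0, 0, 1, 0, 0, 1; 0, 1, 0, 0, 0, 0, 1; 0, 0, 1, 0, 0, 0, 1; 0, 0, 0, 0, 1, 0, 0]
    !![1, 0, 1, 0, 0, 0, 0; 1, 1, 0, 0, 1, 0, 0; 0, 0, 1, 0, 1, 0, 0; 0, 1, 1, 0, 0, 0, 0]
    !![1, 0, 0, 0; 0, 1, 0, 0; 0, 0, 1, 0; 0, 0, 0, 0; 0, 0, 0, 1; 0, 0, 0, 0; 0, 0, 0, 0]
    (by (refine of_decide_eq_true ?_; (try (rewrite [Cfsg.Agent.LsF.f79201c_25.2, Cfsg.Agent.LsF.f79201c_1.2, Cfsg.Agent.LsF.mof_pat, Cfsg.Agent.LsF.mof_pat, Cfsg.Agent.LsF.vecCons_eq, Cfsg.Agent.LsF.zdecEq_eq, Cfsg.Agent.LsF.finFintype_eq, Cfsg.Agent.LsF.dMat_eq, Cfsg.Agent.LsF.instMHMul_eq, Cfsg.Agent.LsF.instMMul_eq, Cfsg.Agent.LsF.instZMul_pat, Cfsg.Agent.LsF.zACM_pat, Cfsg.Agent.LsF.decide_eq])); decide +kernel)) (by decide +kernel) (by decide +kernel)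

theorem Z7_r2 : ((Z7 * GG * Z7 * GG * Z7).map φ).rank = 3 :=
  rank_of_cert' φ (r := 3)
    !![0, 0, 1; 0, 1, 1; 0, 1, 1; 0, 0, 1; 1, 0, 0; 0, 0, 0; 0, 0, 1]
    !![1, 0, 0, 1, 0, 0, 1; 0, 1, 1, 0, 0, 0, 0; 0, 0, 0, 0, 1, 0, 0]
    !![0, 0, 0, 0, 1, 0, 0; 1, 1, 0, 0, 0, 0, 0; 1, 0, 0, 0, 0, 0, 0]
    !![1, 0, 0; 0, 1, 0; 0, 0, 0; 0, 0, 0; 0, 0, 1; 0, 0, 0; 0, 0, 0]
    (by (refine of_decide_eq_true ?_; (try (rewrite [Cfsg.Agent.LsF.f79201c_25.2, Cfsg.Agent.LsF.f79201c_1.2, Cfsg.Agent.LsF.mof_pat, Cfsg.Agent.LsF.mof_pat, Cfsg.Agent.LsF.vecCons_eq, Cfsg.Agent.LsF.zdecEq_eq, Cfsg.Agent.LsF.finFintype_eq, Cfsg.Agent.LsF.dMat_eq, Cfsg.Agent.LsF.instMHMul_eq, Cfsg.Agent.LsF.instMMul_eq, Cfsg.Agent.LsF.instZMul_pat, Cfsg.Agent.LsF.zACM_pat, Cfsg.Agent.LsF.decide_eq])); decide +kernel)) (by decide +kernel) (by decide +kernel)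

theorem Z7_r3 : ((mm Z7 (mm Z7 Z7)).map φ).rank = 6 :=
  rank_of_cert' φ (r := 6)
    !![1, 0, 0, 1, 0, 1; 1, 1, 0, 1, 1, 0; 1, 0, 1, 1, 0, 0; 1, 0, 0, 1, 1, 1; 0, 1, 1, 1, 0, 1; 0, 0, 0, 0, 0, 0; 1, 1, 1, 1, 0, 0]
    !![1, 0, 0, 0, 0, 0, 0; 0, 1, 0, 0, 0, 0, 0; 0, 0, 1, 0, 0, 0, 0; 0, 0, 0, 1, 0, 0, 0; 0, 0, 0, 0, 1, 0, 0; 0, 0, 0, 0, 0, 0, 1]
    !![0, 1, 1, 1, 1, 0, 0; 0, 0, 1, 0, 0, 0, 1; 1, 1, 0, 1, 0, 0, 1; 1, 0, 0, 0, 1, 0, 1; 1, 0, 0, 1, 0, 0, 0; 0, 1, 1, 1, 0, 0, 1]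
    !![1, 0, 0, 0, 0, 0; 0, 1, 0, 0, 0, 0; 0, 0, 1, 0, 0, 0; 0, 0, 0, 1, 0, 0; 0, 0, 0, 0, 1, 0; 0, 0, 0, 0, 0, 0; 0, 0, 0, 0, 0, 1]
    (by (refine of_decide_eq_true ?_; (try (rewrite [Cfsg.Agent.LsF.f79201c_2.2, Cfsg.Agent.LsF.f79201c_25.2, Cfsg.Agent.LsF.mof_pat, Cfsg.Agent.LsF.mof_pat, Cfsg.Agent.LsF.vecCons_eq, Cfsg.Agent.LsF.zdecEq_eq, Cfsg.Agent.LsF.finFintype_eq, Cfsg.Agent.LsF.dMat_eq, Cfsg.Agent.LsF.instMHMul_eq, Cfsg.Agent.LsF.instZMul_pat, Cfsg.Agent.LsF.zACM_pat, Cfsg.Agent.LsF.decide_eq])); decide +kernel)) (by decide +kernel) (by decide +kernel)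

include D φ in
theorem Z7_el [CharP F 2] (hP : ∀ (u v : ι → F) (hu : Q u ≠ 0) (hv : Q v ≠ 0), Q u = Q v →
    reflIso Q u hu * reflIso Q v hv ∈ Cfsg.Omega F (⇑Q)) (hQ : (polarBilin Q).Nondegenerate) (hn : 3 ≤ Fintype.card ι)
    (hs : ∃ u : ι → F, u ≠ 0 ∧ Q u = 0) : TwoEl Q (4, 3, 6) :=
  twoEl_of D φ hQ hn hs Z7 (Z7_good D φ hP) (Z7_r1 φ) (Z7_r2 φ) (Z7_r3 φ) ![1, 0, 0, 1, 0, 0, 0] (by decide +kernel) 4 (by decide +kernel)

def Z8 : M7 (ZMod 2) := !![1, 0, 0, 0, 0, 1, 1; 0, 0, 0, 0, 0, 1, 0; 0, 0, 1, 0, 0, 0, 1; 0, 0, 1, 1, 0, 0, 0; 0, 0, 0, 0, 0, 0, 0; 0, 1, 0, 0, 0, 1, 1; 1, 0, 0, 1, 0, 0, 1]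

private noncomputable def _root_.Cfsg.Agent.LsF.f79201c_26 : {f // @Cfsg.Agent.H621.Zer.Z8 = f} := ⟨_, by first | (delta Cfsg.Agent.H621.Zer.Z8; rewrite [Cfsg.Agent.LsF.mof_pat, Cfsg.Agent.LsF.vecCons_eq]; exact rfl) | exact rfl⟩
theorem Z8_good (hP : ∀ (u v : ι → F) (hu : Q u ≠ 0) (hv : Q v ≠ 0), Q u = Q v →
    reflIso Q u hu * reflIso Q v hv ∈ Cfsg.Omega F (⇑Q)) : D.Good φ Z8 := by
  have h : Z8 = (mm (mm (Mr ![1, 0, 0, 0, 0, 1, 1]) (Mr ![0, 0, 0, 0, 0, 0, 1])) (mm (mm (Mr ![0, 0, 1, 1, 0, 0, 0]) (Mr ![1, 1, 0, 0, 0, 1, 0])) (mm (Mr ![1, 1, 0, 0, 0, 0, 0]) (Mr ![0, 0, 0, 1, 0, 0, 1])))) := by (refine of_decide_eq_true ?_; (try (rewrite [Cfsg.Agent.LsF.f79201c_26.2, Cfsg.Agent.LsF.f79201c_2.2, Cfsg.Agent.LsF.vecCons_eq, Cfsg.Agent.LsF.zdecEq_eq, Cfsg.Agent.LsF.finFintype_eq, Cfsg.Agent.LsF.dMat_eq, Cfsg.Agent.LsF.decide_eq])); decide +kernel)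
  rw [h]
  exact (Emb.Good.mul φ D (D.good_pair φ hP ![1, 0, 0, 0, 0, 1, 1] ![0, 0, 0, 0, 0, 0, 1] (by decide) (by decide)) (Emb.Good.mul φ D (D.good_pair φ hP ![0, 0, 1, 1, 0, 0, 0] ![1, 1, 0, 0, 0, 1, 0] (by decide) (by decide)) (D.good_pair φ hP ![1, 1, 0, 0, 0, 0, 0] ![0, 0, 0, 1, 0, 0, 1] (by decide) (by decide))))

theorem Z8_r1 : ((Z8 * GG * Z8).map φ).rank = 4 :=
  rank_of_cert' φ (r := 4)
    !![0, 0, 0, 1; 0, 0, 0, 0; 0, 1, 1, 0; 0, 0, 1, 0; 0, 0, 0, 0; 1, 0, 0, 1; 0, 1, 0, 1]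
    !![1, 0, 0, 0, 0, 0, 1; 0, 0, 1, 0, 0, 0, 1; 0, 0, 0, 1, 0, 0, 1; 0, 0, 0, 0, 0, 1, 0]
    !![1, 0, 0, 0, 0, 1, 0; 0, 0, 1, 1, 0, 0, 0; 0, 0, 0, 1, 0, 0, 0; 1, 0, 0, 0, 0, 0, 0]
    !![1, 0, 0, 0; 0, 0, 0, 0; 0, 1, 0, 0; 0, 0, 1, 0; 0, 0, 0, 0; 0, 0, 0, 1; 0, 0, 0, 0]
    (by (refine of_decide_eq_true ?_; (try (rewrite [Cfsg.Agent.LsF.f79201c_26.2, Cfsg.Agent.LsF.f79201c_1.2, Cfsg.Agent.LsF.mof_pat, Cfsg.Agent.LsF.mof_pat, Cfsg.Agent.LsF.vecCons_eq, Cfsg.Agent.LsF.zdecEq_eq, Cfsg.Agent.LsF.finFintype_eq, Cfsg.Agent.LsF.dMat_eq, Cfsg.Agent.LsF.instMHMul_eq, Cfsg.Agent.LsF.instMMul_eq, Cfsg.Agent.LsF.instZMul_pat, Cfsg.Agent.LsF.zACM_pat, Cfsg.Agent.LsF.decide_eq])); decide +kernel)) (by decide +kernel) (by decide +kernel)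

theorem Z8_r2 : ((Z8 * GG * Z8 * GG * Z8).map φ).rank = 3 :=
  rank_of_cert' φ (r := 3)
    !![0, 0, 0; 0, 0, 0; 0, 1, 0; 1, 0, 0; 0, 0, 0; 0, 0, 1; 1, 1, 0]
    !![0, 0, 1, 0, 0, 0, 1; 0, 0, 0, 1, 0, 0, 1; 0, 0, 0, 0, 0, 1, 0]
    !![0, 0, 0, 1, 0, 0, 0; 0, 0, 1, 0, 0, 0, 0; 0, 0, 0, 0, 0, 1, 0]
    !![0, 0, 0; 0, 0, 0; 1, 0, 0; 0, 1, 0; 0, 0, 0; 0, 0, 1; 0, 0, 0]
    (by (refine of_decide_eq_true ?_; (try (rewrite [Cfsg.Agent.LsF.f79201c_26.2, Cfsg.Agent.LsF.f79201c_1.2, Cfsg.Agent.LsF.mof_pat, Cfsg.Agent.LsF.mof_pat, Cfsg.Agent.LsF.vecCons_eq, Cfsg.Agent.LsF.zdecEq_eq, Cfsg.Agent.LsF.finFintype_eq, Cfsg.Agent.LsF.dMat_eq, Cfsg.Agent.LsF.instMHMul_eq, Cfsg.Agent.LsF.instMMul_eq, Cfsg.Agent.LsF.instZMul_pat, Cfsg.Agent.LsF.zACM_pat, Cfsg.Agent.LsF.decide_eq])); decide +kernel)) (by decide +kernel) (by decide +kernel)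

theorem Z8_r3 : ((mm Z8 (mm Z8 Z8)).map φ).rank = 4 :=
  rank_of_cert' φ (r := 4)
    !![1, 0, 0, 1; 0, 0, 1, 0; 0, 0, 0, 0; 0, 0, 0, 0; 0, 0, 0, 0; 1, 1, 1, 0; 1, 0, 1, 0]
    !![1, 0, 0, 0, 0, 0, 0; 0, 1, 0, 0, 0, 0, 0; 0, 0, 0, 0, 0, 1, 0; 0, 0, 0, 0, 0, 0, 1]
    !![0, 1, 0, 0, 0, 0, 1; 0, 0, 0, 0, 0, 1, 1; 0, 1, 0, 0, 0, 0, 0; 1, 1, 0, 0, 0, 0, 1]
    !![1, 0, 0, 0; 0, 1, 0, 0; 0, 0, 0, 0; 0, 0, 0, 0; 0, 0, 0, 0; 0, 0, 1, 0; 0, 0, 0, 1]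
    (by (refine of_decide_eq_true ?_; (try (rewrite [Cfsg.Agent.LsF.f79201c_2.2, Cfsg.Agent.LsF.f79201c_26.2, Cfsg.Agent.LsF.mof_pat, Cfsg.Agent.LsF.mof_pat, Cfsg.Agent.LsF.vecCons_eq, Cfsg.Agent.LsF.zdecEq_eq, Cfsg.Agent.LsF.finFintype_eq, Cfsg.Agent.LsF.dMat_eq, Cfsg.Agent.LsF.instMHMul_eq, Cfsg.Agent.LsF.instZMul_pat, Cfsg.Agent.LsF.zACM_pat, Cfsg.Agent.LsF.decide_eq])); decide +kernel)) (by decide +kernel) (by decide +kernel)

include D φ in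
theorem Z8_el [CharP F 2] (hP : ∀ (u v : ι → F) (hu : Q u ≠ 0) (hv : Q v ≠ 0), Q u = Q v →
    reflIso Q u hu * reflIso Q v hv ∈ Cfsg.Omega F (⇑Q)) (hQ : (polarBilin Q).Nondegenerate) (hn : 3 ≤ Fintype.card ι)
    (hs : ∃ u : ι → F, u ≠ 0 ∧ Q u = 0) : TwoEl Q (4, 3, 4) :=
  twoEl_of D φ hQ hn hs Z8 (Z8_good D φ hP) (Z8_r1 φ) (Z8_r2 φ) (Z8_r3 φ) ![0, 1, 0, 0, 0, 0, 0] (by decide +kernel) 5 (by decide +kernel)

end Elements

theorem big_two_main [Finite F] [CharP F 2] (D : Emb Q)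
    (hQ : (polarBilin Q).Nondegenerate) (hn : 5 ≤ Fintype.card ι) (hs : ∃ u : ι → F, u ≠ 0 ∧ Q u = 0)
    [Finite (Cfsg.POmega F (⇑Q))] [IsSimpleGroup (Cfsg.POmega F (⇑Q))]
    (hL : Cfsg.IsLieTypeChar 2 (Cfsg.POmega F (⇑Q))) : Cfsg.Agent.H504.Zeros.Big (Cfsg.POmega F (⇑Q)) := by
  have h2 : (2 : F) = 0 := CharTwo.two_eq_zero
  have hP : ∀ (u v : ι → F) (hu : Q u ≠ 0) (hv : Q v ≠ 0), Q u = Q v →
      reflIso Q u hu * reflIso Q v hv ∈ Cfsg.Omega F (⇑Q) := fun u v hu hv _ =>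
    Cfsg.Agent.ClassicalGeometry.OrthDickson.refl_mul_refl_mem_two Q h2 hQ (Or.inr (by omega)) u v hu hv
  have hn' : 3 ≤ Fintype.card ι := by omega
  refine big_two_of h2 hQ hn' hs hL ![(0, 0, 2), (0, 0, 4), (2, 0, 4), (2, 1, 4), (2, 2, 2), (4, 4, 2), (4, 4, 4), (4, 3, 6), (4, 3, 4)] (by decide) ?_
  intro i
  fin_cases i
  · exact Z0_el D (ZMod.castHom (dvd_refl 2) F) hP hQ hn' hs
  · exact Z1_el D (ZMod.castHom (dvd_refl 2) F) hP hQ hn' hs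
  · exact Z2_el D (ZMod.castHom (dvd_refl 2) F) hP hQ hn' hs
  · exact Z3_el D (ZMod.castHom (dvd_refl 2) F) hP hQ hn' hs
  · exact Z4_el D (ZMod.castHom (dvd_refl 2) F) hP hQ hn' hs
  · exact Z5_el D (ZMod.castHom (dvd_refl 2) F) hP hQ hn' hs
  · exact Z6_el D (ZMod.castHom (dvd_refl 2) F) hP hQ hn' hs
  · exact Z7_el D (ZMod.castHom (dvd_refl 2) F) hP hQ hn' hs
  · exact Z8_el D (ZMod.castHom (dvd_refl 2) F) hP hQ hn' hs

end Cfsg.Agent.H621.Zer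
end

-- part: H621/Zer/Main
section
/-!
# `Big` for the orthogonal groups (helper621, for S4895)
-/

set_option autoImplicit false

namespace Cfsg.Agent.H621.Zer

open Matrix QuadraticMap Cfsg Cfsg.Agent.LieClassical.OmegaReindex Cfsg.Agent.H695.ESeven

variable {F : Type} [Field F] [Fintype F]

theorem finite_pomega {ι : Type} [Fintype ι] [DecidableEq ι] (Q : (ι → F) → F) : Finite (Cfsg.POmega F Q) := by
  have : Finite (Matrix.GeneralLinearGroup ι F) := inferInstance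
  infer_instance

theorem big_of_theta {ι : Type} [Fintype ι] [DecidableEq ι] (Q : QuadraticForm F (ι → F))
    (θ : (Fin 7 → F) →ₗ[F] (ι → F)) (hθ : Function.Injective θ) (h : ∀ y, Q (θ y) = q7 y)
    (hQ : (polarBilin Q).Nondegenerate) (hn : 5 ≤ Fintype.card ι) (hs : ∃ u : ι → F, u ≠ 0 ∧ Q u = 0)
    (hsim : IsSimpleGroup (Cfsg.POmega F (⇑Q)))
    (hL : ∀ (p : ℕ) [CharP F p], IsLieTypeChar p (Cfsg.POmega F (⇑Q))) :
    Cfsg.Agent.H504.Zeros.Big (Cfsg.POmega F (⇑Q)) := by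
  have hfin := finite_pomega (⇑Q)
  let D : Emb Q := ⟨θ, hθ, fun y => by rw [h y, q7, qq, pow_two]⟩
  obtain ⟨p, hp⟩ := CharP.exists F
  have hpp : p.Prime := CharP.char_is_prime F p
  by_cases h2 : p = 2
  · subst h2
    exact big_two_main D hQ hn hs (hL 2)
  · refine big_odd_main hpp D ?_ hQ (by omega) hs (hL p)
    intro h3
    have h4 : p ∣ 2 := (CharP.cast_eq_zero_iff F p 2).1 (by exact_mod_cast h3)
    exact h2 ((Nat.prime_dvd_prime_iff_eq hpp Nat.prime_two).1 h4)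

/-- **`PΩ⁺_{2m}(q)`, `m ≥ 4`** -/
theorem big_oplus {F : Type} [Field F] [Fintype F] {m : ℕ} (hm : 4 ≤ m) :
    Cfsg.Agent.H504.Zeros.Big (Cfsg.POmega F (Cfsg.quadFormPlus m F)) := by
  obtain ⟨k, rfl⟩ : ∃ k, m = k + 4 := ⟨m - 4, by omega⟩
  have hsim := Cfsg.Agent.S0296.result (F := F) (k + 4) hm
  have key := big_of_theta (quadPlus (k + 4) F) (thetaPlus F k) (thetaPlus_injective k)
    (fun y => by rw [coe_quadPlus, thetaPlus_q]) quadPlus_nondegenerate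
    (by simp only [Fintype.card_sum, Fintype.card_fin]; omega)
    (quadPlus_isotropic (by omega)) (by rw [coe_quadPlus]; exact hsim)
    (fun p _ => by
      rw [coe_quadPlus]
      exact Or.inr (Or.inr (Or.inr (Or.inr (Or.inl ⟨F, inferInstance, inferInstance, inferInstance, k + 4, hm,
        ⟨MulEquiv.refl _⟩⟩)))))
  rwa [coe_quadPlus] at key

/-- **`PΩ⁻_{2m}(q)`, `m ≥ 4`** -/
theorem big_ominus {F : Type} [Field F] [Fintype F] {m : ℕ} (a b : F) (hm : 4 ≤ m)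
    (hab : ∀ z₁ z₂ : F, z₁ ^ 2 + a * z₁ * z₂ + b * z₂ ^ 2 = 0 → z₁ = 0 ∧ z₂ = 0) :
    Cfsg.Agent.H504.Zeros.Big (Cfsg.POmega F (Cfsg.quadFormMinus (m - 1) F a b)) := by
  obtain ⟨k, rfl⟩ : ∃ k, m = k + 4 := ⟨m - 4, by omega⟩
  have hsim := Cfsg.Agent.S0297.result (F := F) (k + 4) hm a b hab
  rw [show k + 4 - 1 = k + 3 from rfl] at hsim ⊢
  have key := big_of_theta (quadMinus (k + 3) F a b) (thetaMinus F k) (thetaMinus_injective k)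
    (fun y => by rw [coe_quadMinus, thetaMinus_q]) (quadMinus_nondegenerate hab)
    (by simp only [Fintype.card_sum, Fintype.card_fin]; omega)
    (quadMinus_isotropic (by omega) a b) (by rw [coe_quadMinus]; exact hsim)
    (fun p _ => by
      rw [coe_quadMinus]
      exact Or.inr (Or.inr (Or.inr (Or.inr (Or.inr (Or.inl ⟨F, inferInstance, inferInstance, inferInstance, k + 4,
        a, b, hm, hab, ⟨MulEquiv.refl _⟩⟩))))))
  rwa [coe_quadMinus] at key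

/-- **`PΩ_{2m+1}(q)`, `m ≥ 3`, `q` odd** -/
theorem big_oodd {F : Type} [Field F] [Fintype F] {m : ℕ} (hm : 3 ≤ m) (ho : Odd (Fintype.card F)) :
    Cfsg.Agent.H504.Zeros.Big (Cfsg.POmega F (Cfsg.quadFormOdd m F)) := by
  obtain ⟨k, rfl⟩ : ∃ k, m = k + 3 := ⟨m - 3, by omega⟩
  have hsim := Cfsg.Agent.S0295.result (F := F) ho (k + 3) hm
  have h2 : (2 : F) ≠ 0 := fun h2 => by
    have h3 : ringChar F ∣ 2 := (ringChar.spec F 2).1 (by exact_mod_cast h2)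
    have h4 : ringChar F = 2 := (Nat.prime_dvd_prime_iff_eq (CharP.char_is_prime F (ringChar F)) Nat.prime_two).1 h3
    exact Nat.not_even_iff_odd.2 ho (Nat.even_iff.2 (FiniteField.even_card_of_char_two h4))
  have key := big_of_theta (quadOdd (k + 3) F) (thetaOdd F k) (thetaOdd_injective k)
    (fun y => by rw [coe_quadOdd, thetaOdd_q]) (quadOdd_nondegenerate h2)
    (by simp only [Fintype.card_sum, Fintype.card_fin, Fintype.card_unit]; omega)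
    (quadOdd_isotropic (by omega)) (by rw [coe_quadOdd]; exact hsim)
    (fun p _ => by
      rw [coe_quadOdd]
      exact Or.inr (Or.inr (Or.inr (Or.inl ⟨F, inferInstance, inferInstance, inferInstance, k + 3, hm, ho,
        ⟨MulEquiv.refl _⟩⟩))))
  rwa [coe_quadOdd] at key

end Cfsg.Agent.H621.Zer
end

private theorem dce_3bb27190dd01 : _root_.True := by
  try have : _root_.True := by simp only [_root_.Cfsg.Agent.H621.Zer.Emb.B.eq_1]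
  try have : _root_.True := by simp only [_root_.Cfsg.Agent.H621.Zer.Emb.B.congr_simp]
  try have : _root_.True := by simp only [_root_.Cfsg.Agent.H621.Zer.Mr.eq_1]
  try have : _root_.True := by simp only [_root_.Cfsg.Agent.H621.Zer.qq.eq_1]
  try have : _root_.True := by simp only [_root_.Cfsg.Agent.H621.Zer.Emb.em.eq_1]
  try have : _root_.True := by simp only [_root_.Cfsg.Agent.H621.Zer.mm.eq_1]
  try have : _root_.True := by simp only [_root_.Cfsg.Agent.H621.Zer.GG.eq_1]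
  try have : _root_.True := by simp only [_root_.Cfsg.Agent.H621.Zer.Emb.T.eq_1]
  exact _root_.True.intro
end

-- part: H224/ZerosE7
section
prune_inst 0x42000003000000000000002020020645c000190006300016880084609012363890027009e90101000ce3288100c80000010015900000000000036000002012080ab10263134bc04140087801084000000000000000000000000000000000004000000000
set_option linter.all false
open scoped Cfsg.Agent.FastGrp

/-!
# Zeros in the character table of `E₇(q)` (for S4895)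

`big_e7` : the Steinberg character vanishes on nine elements of different orders divisible by the characteristic.
-/

set_option autoImplicit false

namespace Cfsg.Agent.H224.ZerosE7

open CoxeterSystem Cfsg Cfsg.Lie Cfsg.Lie.ChevalleyDatum
open Cfsg.Agent.ChevalleyStructure.CoxeterGeomTypes
open Cfsg.Agent.Nodes.RGDChev
open Cfsg.Agent.BpExc.RowsUntw Cfsg.Agent.BpExc.FamInst
open Cfsg.Agent.H378.SmallTor Cfsg.Agent.H378.AdjTab Cfsg.Agent.H378.CycTab Cfsg.Agent.H378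
open Cfsg.Agent.H92.KTools Cfsg.Agent.H92.ExcOrd Cfsg.Agent.H504.Zeros

variable {F : Type} [Field F] [Finite F] (p : ℕ) [hp : Fact p.Prime] [CharP F p]

theorem od_ge {q r e : ℕ} (hr : r.Prime) (he : 2 ≤ e) (h : orderOf (q : ZMod r) = e) : e + 1 ≤ r := by
  have hq : ¬ r ∣ q := by
    intro h1
    have : Fact r.Prime := ⟨hr⟩
    have h2 : (q : ZMod r) = 0 := (ZMod.natCast_eq_zero_iff q r).2 h1
    rw [h2, orderOf_zero] at h
    omega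
  have h1 := Lib.Zsigmondy.orderOf_dvd_pred hr hq
  rw [h] at h1
  have h2 := Nat.le_of_dvd (by have := hr.two_le; omega) h1
  omega

theorem ne_of_od {q r r' e e' : ℕ} (h : orderOf (q : ZMod r) = e) (h' : orderOf (q : ZMod r') = e') (hne : e ≠ e') :
    r ≠ r' := by
  rintro rfl
  exact hne (h.symm.trans h')

/-- an element of order `p * r` from commuting elements -/
theorem hasOrd_of {q e r : ℕ} (hq : q = Nat.card F) (hr : r.Prime) (he : 2 ≤ e) (h : orderOf (q : ZMod r) = e)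
    {X : Type} [Group X] (hx : ¬ r ∣ q - 1 → ∃ x u n : X, orderOf x = r ∧ orderOf u = p ∧ 2 ∣ orderOf n ∧
      Commute x u ∧ Commute x n) : HasOrd X (p * r) := by
  have : Fact r.Prime := ⟨hr⟩
  have hqp : p ∣ q := by
    have h1 : ((Nat.card F : ℕ) : F) = 0 := by
      have := Fintype.ofFinite F
      rw [Nat.card_eq_fintype_card, FiniteField.cast_card_eq_zero]
    rw [hq, ← CharP.cast_eq_zero_iff F p]
    exact h1
  have h1 : ¬ r ∣ q - 1 := by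
    intro h1
    have hq1 : 1 ≤ q := by rw [hq]; exact Nat.card_pos
    have h2 : ((q - 1 : ℕ) : ZMod r) = 0 := (ZMod.natCast_eq_zero_iff _ r).2 h1
    rw [Nat.cast_sub hq1, Nat.cast_one, sub_eq_zero] at h2
    rw [h2, orderOf_one] at h
    omega
  obtain ⟨x, u, -, hx, hu, -, hc, -⟩ := hx h1
  refine HasOrd.mul_of_commute hu hx hc.symm ?_
  rw [Nat.coprime_primes hp.out hr]
  rintro rfl
  have h2 : (q : ZMod p) = 0 := (ZMod.natCast_eq_zero_iff q p).2 hqp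
  rw [h2, orderOf_zero] at h
  omega

theorem e7_rows : ∃ r3 r4 r5 r8 r10 : ℕ, r3.Prime ∧ r4.Prime ∧ r5.Prime ∧ r8.Prime ∧ r10.Prime ∧
    orderOf ((Nat.card F : ℕ) : ZMod r3) = 3 ∧ orderOf ((Nat.card F : ℕ) : ZMod r4) = 4 ∧
    orderOf ((Nat.card F : ℕ) : ZMod r5) = 5 ∧ orderOf ((Nat.card F : ℕ) : ZMod r8) = 8 ∧
    orderOf ((Nat.card F : ℕ) : ZMod r10) = 10 ∧
    HasOrd (chevE7.group F) (p * r3) ∧ HasOrd (chevE7.group F) (p * r4) ∧ HasOrd (chevE7.group F) (p * r5) ∧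
    HasOrd (chevE7.group F) (p * r8) ∧ HasOrd (chevE7.group F) (p * r10) := by
  let cs : CoxeterSystem CoxeterMatrix.E₇ CoxeterMatrix.E₇.Group := CoxeterMatrix.E₇.toCoxeterSystem
  have := finite_W e7T cs
  have hq : 2 ≤ Nat.card F := Finite.one_lt_card
  obtain ⟨r3, h3, o3⟩ := Lib.Zsigmondy.exists_prime_orderOf (n := 3) hq (by omega) (by omega) (by omega)
  obtain ⟨r4, h4, o4⟩ := Lib.Zsigmondy.exists_prime_orderOf (n := 4) hq (by omega) (by omega) (by omega)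
  obtain ⟨r5, h5, o5⟩ := Lib.Zsigmondy.exists_prime_orderOf (n := 5) hq (by omega) (by omega) (by omega)
  obtain ⟨r8, h8, o8⟩ := Lib.Zsigmondy.exists_prime_orderOf (n := 8) hq (by omega) (by omega) (by omega)
  obtain ⟨r10, h10, o10⟩ := Lib.Zsigmondy.exists_prime_orderOf (n := 10) hq (by omega) (by omega) (by omega)
  refine ⟨r3, r4, r5, r8, r10, h3, h4, h5, h8, h10, o3, o4, o5, o8, o10, ?_, ?_, ?_, ?_, ?_⟩
  · exact hasOrd_of p (F := F) rfl h3 (by omega) o3 fun h => exists_comm_row e7T cs inv_E7 two_ne_zero AdjE7.hA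
      AdjE7.lt_nroots AdjE7.row3 h3 h (dvd3 h3 o3)
  · exact hasOrd_of p (F := F) rfl h4 (by omega) o4 fun h => exists_comm_row e7T cs inv_E7 two_ne_zero AdjE7.hA
      AdjE7.lt_nroots AdjE7.row4 h4 h (dvd4 h4 o4)
  · exact hasOrd_of p (F := F) rfl h5 (by omega) o5 fun h => exists_comm_row e7T cs inv_E7 two_ne_zero AdjE7.hA
      AdjE7.lt_nroots AdjE7.row5 h5 h (dvd5 h5 o5)
  · exact hasOrd_of p (F := F) rfl h8 (by omega) o8 fun h => exists_comm_row e7T cs inv_E7 two_ne_zero AdjE7.hA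
      AdjE7.lt_nroots AdjE7.row8 h8 h (dvd8 h8 o8)
  · exact hasOrd_of p (F := F) rfl h10 (by omega) o10 fun h => exists_comm_row e7T cs inv_E7 two_ne_zero AdjE7.hA
      AdjE7.lt_nroots AdjE7.row10 h10 h (dvd10 h10 o10)

theorem e7_row6 (h2 : Nat.card F ≠ 2) : ∃ r6 : ℕ, r6.Prime ∧ orderOf ((Nat.card F : ℕ) : ZMod r6) = 6 ∧
    HasOrd (chevE7.group F) (p * r6) := by
  let cs : CoxeterSystem CoxeterMatrix.E₇ CoxeterMatrix.E₇.Group := CoxeterMatrix.E₇.toCoxeterSystem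
  have := finite_W e7T cs
  have hq : 2 ≤ Nat.card F := Finite.one_lt_card
  obtain ⟨r3, h3, o3⟩ := Lib.Zsigmondy.exists_prime_orderOf (n := 6) hq (by omega) (by omega) (by omega)
  exact ⟨r3, h3, o3, hasOrd_of p (F := F) rfl h3 (by omega) o3 fun h => exists_comm_row e7T cs inv_E7 two_ne_zero
    AdjE7.hA AdjE7.lt_nroots AdjE7.row6 h3 h (dvd6 h3 o3)⟩

theorem e7_odd (h2 : p ≠ 2) :
    HasOrd (chevE7.group F) 4 ∧ HasOrd (chevE7.group F) (2 * p) ∧ HasOrd (chevE7.group F) (4 * p) :=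
  ords_odd (D := chevE7) (by simp) (i := 0) (s := 73) (r := 78) (by decide +kernel) (by decide +kernel)
    (by decide +kernel) (by decide +kernel) (by decide +kernel) (by decide +kernel) p h2

omit [Finite F] [CharP F p] in
theorem e7_two (hF : (2 : F) = 0) :
    HasOrd (chevE7.group F) 4 ∧ HasOrd (chevE7.group F) 6 ∧ HasOrd (chevE7.group F) 12 :=
  ords_two (D := chevE7) (by simp) (r := 93) (s := 73) (k := 94) (j := 78) (c := -1) (by decide +kernel) (by decide +kernel)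
    (by decide +kernel) (by decide +kernel) (by decide +kernel) (by decide +kernel) (by decide +kernel) (by decide +kernel) (by decide +kernel) (by decide +kernel) (by decide +kernel) hF

theorem e7_p : HasOrd (chevE7.group F) p := by
  refine ⟨⟨Cfsg.Agent.ChevalleyStructure.Elts.xG (D := chevE7) (by simp) 93 1,
    Cfsg.Agent.ChevalleyStructure.Elts.xG_mem_group _ _ _⟩, ?_⟩
  rw [← coe_orderOf]
  exact orderOf_xG (D := chevE7) (by simp) (r := 93) (by decide +kernel) p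

theorem card_image_mul {p : ℕ} (hp : 0 < p) {l : List ℕ} (hl : l.Nodup) :
    (l.toFinset.image fun n => p * n).card = l.length := by
  rw [Finset.card_image_of_injective _ fun a b h => Nat.eq_of_mul_eq_mul_left hp h,
    List.toFinset_card_of_nodup hl]

omit hp in
/-- **The row `E₇`.** -/
theorem big_e7 {F : Type} [Field F] [Fintype F] : Cfsg.Agent.H504.Zeros.Big (Cfsg.Lie.chevE7.group F) := by
  obtain ⟨p, hpc⟩ := CharP.exists F
  have hpr : p.Prime := CharP.char_is_prime F p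
  have : Fact p.Prime := ⟨hpr⟩
  have : IsSimpleGroup ↥(chevE7.group F) := (S1054.result chevE7 (by simp)).1
  have hL : IsLieTypeChar p ↥(chevE7.group F) := by
    refine Or.inr (Or.inr (Or.inr (Or.inr (Or.inr (Or.inr (Or.inl ⟨F, inferInstance, inferInstance, hpc, ?_⟩))))))
    exact Or.inr (Or.inr (Or.inr (Or.inl ⟨MulEquiv.refl _⟩)))
  have hdz := hasDZ_of_hasSt (Cfsg.Agent.H167.StChar.hasSt_of_lie hpr hL)
  obtain ⟨r3, r4, r5, r8, r10, h3, h4, h5, h8, h10, o3, o4, o5, o8, o10, H3, H4, H5, H8, H10⟩ := e7_rows (F := F) p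
  have g3 := od_ge h3 (by norm_num) o3
  have g4 := od_ge h4 (by norm_num) o4
  have g5 := od_ge h5 (by norm_num) o5
  have g8 := od_ge h8 (by norm_num) o8
  have g10 := od_ge h10 (by norm_num) o10
  have hn : ∀ r : ℕ, r.Prime → 4 ≤ r → 1 ≠ r ∧ 2 ≠ r ∧ 3 ≠ r ∧ 4 ≠ r ∧ 6 ≠ r := by
    intro r hr h
    refine ⟨?_, ?_, ?_, ?_, ?_⟩ <;> rintro rfl
    · exact absurd h (by decide)
    · exact absurd h (by decide)
    · exact absurd h (by decide)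
    · exact absurd hr (by norm_num)
    · exact absurd hr (by norm_num)
  have n34 := ne_of_od o3 o4 (by norm_num)
  have n35 := ne_of_od o3 o5 (by norm_num)
  have n38 := ne_of_od o3 o8 (by norm_num)
  have n310 := ne_of_od o3 o10 (by norm_num)
  have n45 := ne_of_od o4 o5 (by norm_num)
  have n48 := ne_of_od o4 o8 (by norm_num)
  have n410 := ne_of_od o4 o10 (by norm_num)
  have n58 := ne_of_od o5 o8 (by norm_num)
  have n510 := ne_of_od o5 o10 (by norm_num)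
  have n810 := ne_of_od o8 o10 (by norm_num)
  have k3 := hn r3 h3 (le_trans (by decide) g3)
  have k4 := hn r4 h4 (le_trans (by decide) g4)
  have k5 := hn r5 h5 (le_trans (by decide) g5)
  have k8 := hn r8 h8 (le_trans (by decide) g8)
  have k10 := hn r10 h10 (le_trans (by decide) g10)
  by_cases h2 : p = 2
  · subst h2
    obtain ⟨A4, A6, A12⟩ := e7_two (F := F) (by exact_mod_cast CharP.cast_eq_zero F 2)
    have hl : [1, 2, 3, 6, r3, r4, r5, r8, r10].Nodup := by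
      simp only [List.nodup_cons, List.mem_cons, List.not_mem_nil, or_false, not_false_eq_true, List.nodup_nil, and_true,
        Nat.reduceEqDiff, k3, k4, k5, k8, k10, n34, n35, n38, n310, n45, n48, n410, n58, n510, n810]
    refine big_of_orders hdz (([1, 2, 3, 6, r3, r4, r5, r8, r10].toFinset).image fun n => 2 * n) ?_
      (by rw [card_image_mul (by norm_num) hl]; rfl)
    intro n hn
    obtain ⟨m, hm, rfl⟩ := Finset.mem_image.1 hn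
    refine ⟨dvd_mul_right _ _, ?_⟩
    simp only [List.toFinset_cons, List.toFinset_nil, insert_empty_eq, Finset.mem_insert, Finset.mem_singleton] at hm
    rcases hm with rfl | rfl | rfl | rfl | rfl | rfl | rfl | rfl | rfl
    · exact e7_p (F := F) 2
    · exact A4
    · exact A6
    · exact A12
    · exact H3
    · exact H4
    · exact H5
    · exact H8
    · exact H10
  · have hq2 : Nat.card F ≠ 2 := by
      intro h
      have h1 : ((Nat.card F : ℕ) : F) = 0 := by rw [Nat.card_eq_fintype_card, FiniteField.cast_card_eq_zero]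
      rw [CharP.cast_eq_zero_iff F p, h, Nat.prime_dvd_prime_iff_eq hpr Nat.prime_two] at h1
      exact h2 h1
    obtain ⟨r6, h6, o6, H6⟩ := e7_row6 (F := F) p hq2
    have g6 := od_ge h6 (by norm_num) o6
    have n36 := ne_of_od o3 o6 (by norm_num)
    have n46 := ne_of_od o4 o6 (by norm_num)
    have n56 := ne_of_od o5 o6 (by norm_num)
    have n68 := ne_of_od o6 o8 (by norm_num)
    have n610 := ne_of_od o6 o10 (by norm_num)
    have k6 := hn r6 h6 (le_trans (by decide) g6)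
    obtain ⟨A4, A2p, A4p⟩ := e7_odd (F := F) p h2
    have hl : [1, 2, 4, r3, r4, r5, r6, r8, r10].Nodup := by
      simp only [List.nodup_cons, List.mem_cons, List.not_mem_nil, or_false, not_false_eq_true, List.nodup_nil, and_true,
        Nat.reduceEqDiff, k3, k4, k5, k8, k10, n34, n35, n38, n310, n45, n48, n410, n58, n510, n810,
        k6, n36, n46, n56, n68, n610]
    refine big_of_orders hdz (([1, 2, 4, r3, r4, r5, r6, r8, r10].toFinset).image fun n => p * n) ?_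
      (by rw [card_image_mul hpr.pos hl]; rfl)
    intro n hn
    obtain ⟨m, hm, rfl⟩ := Finset.mem_image.1 hn
    refine ⟨dvd_mul_right _ _, ?_⟩
    simp only [List.toFinset_cons, List.toFinset_nil, insert_empty_eq, Finset.mem_insert, Finset.mem_singleton] at hm
    rcases hm with rfl | rfl | rfl | rfl | rfl | rfl | rfl | rfl | rfl
    · rw [mul_one]; exact e7_p (F := F) p
    · rw [mul_comm]; exact A2p
    · rw [mul_comm]; exact A4p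
    · exact H3
    · exact H4
    · exact H5
    · exact H6
    · exact H8
    · exact H10

end Cfsg.Agent.H224.ZerosE7
end

-- part: H605/ZerosE6
section
prune_inst 0x40000001000000000000000000020044c000190002000014880084409002302894001008480100000ca22881004000000100050000000000000000000000120802810041000ac04140081800084000000000000000000000000000000000004000000000
set_option linter.all false
open scoped Cfsg.Agent.FastGrp

/-!
# Zeros in the character tables of `E₆(q)`, `²E₆(q)` (helper605, for S4895)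

* `big_of_tor` : `Big G` from a cyclic self-centralizing torus with automizer of order 9 and ten orders.
* `big_e6`, `big_te6`.
-/

set_option autoImplicit false

namespace Cfsg.Agent.H605.ZerosE6

open Cfsg Cfsg.Lie Cfsg.Agent.H92.KTools Cfsg.Agent.H436 Cfsg.Agent.H129.CycT
  Cfsg.Agent.H504.Zeros Cfsg.Agent.H504.ZeroTI

universe u

/-- the torus, the automizer of order 9, the primes of the index and even composite orders -/
theorem big_of_tor {G : Type u} [Group G] [Finite G] {a n : ℕ} (h : CycExact G a) (ha : 46 ≤ a) (hodd : Odd a)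
    (hn : Nat.card G = a * n) (hmod : ((n : ℤ) : ZMod a) = (9 : ℕ)) (C : Finset ℕ)
    (hC : ∀ c ∈ C, HasOrd G c ∧ ¬ c.Prime ∧ 2 ∣ c) (hcard : 10 ≤ n.primeFactors.card + C.card) : Big G := by
  classical
  have hn0 : n ≠ 0 := by
    rintro rfl
    rw [mul_zero] at hn
    exact Nat.card_pos.ne' hn
  -- `n` is prime to `a`
  have hcop : ∀ r : ℕ, r.Prime → r ∣ n → r ∣ a → False := by
    obtain ⟨T, hT, hc, hz⟩ := h
    have hA := cc_of_cyclic hT hz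
    have he := eIdx_of_int (N := (n : ℤ)) hA hc (by omega : 9 < a) (by omega)
      (by rw [hn]; push_cast; ring) hmod
    obtain ⟨m, hem⟩ := exists_m hA
    rw [hc, he] at hem
    intro r hr h1 h2
    have h3 : ((n : ℕ) : ZMod r) = ((9 : ℕ) : ZMod r) := by
      have h4 := congrArg (ZMod.castHom h2 (ZMod r)) hmod
      rw [Int.cast_natCast, map_natCast, map_natCast] at h4
      exact h4
    rw [(ZMod.natCast_eq_zero_iff n r).2 h1] at h3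
    have h5 : r ∣ 9 := (ZMod.natCast_eq_zero_iff 9 r).1 h3.symm
    have h6 : r ∣ 1 := by
      have h7 : r ∣ 9 * m := h5.mul_right m
      have h8 : a - 9 * m = 1 := by omega
      rw [← h8]
      exact Nat.dvd_sub h2 h7
    exact hr.one_lt.ne' (Nat.dvd_one.1 h6)
  have h2a : ¬ 2 ∣ a := by
    intro h2
    obtain ⟨k, hk⟩ := hodd
    omega
  refine big_of_exact_orders h (by omega : 9 < a) (by omega) (N := (n : ℤ)) (by rw [hn]; push_cast; ring) hmod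
    (insert 1 (n.primeFactors ∪ C)) ?_ ?_ ?_
  · intro k hk
    rw [Finset.mem_insert, Finset.mem_union] at hk
    rcases hk with rfl | hk | hk
    · exact hasOrd_one G
    · exact hasOrd_prime (Nat.prime_of_mem_primeFactors hk)
        ((Nat.dvd_of_mem_primeFactors hk).trans (by rw [hn]; exact dvd_mul_left _ _))
    · exact (hC k hk).1
  · intro k hk
    rw [Finset.mem_insert, Finset.mem_union] at hk
    rcases hk with rfl | hk | hk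
    · exact Or.inl rfl
    · exact Or.inr fun h1 => hcop k (Nat.prime_of_mem_primeFactors hk) (Nat.dvd_of_mem_primeFactors hk) h1
    · exact Or.inr fun h1 => h2a ((hC k hk).2.2.trans h1)
  · intro m hm
    have h1 : 11 ≤ (insert 1 (n.primeFactors ∪ C)).card := by
      rw [Finset.card_insert_of_notMem, Finset.card_union_of_disjoint]
      · omega
      · rw [Finset.disjoint_left]
        intro k hk hk'
        exact (hC k hk').2.1 (Nat.prime_of_mem_primeFactors hk)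
      · rw [Finset.mem_union, not_or]
        exact ⟨fun h => Nat.not_prime_one (Nat.prime_of_mem_primeFactors h), fun h => by
          have := (hC 1 h).2.2
          omega⟩
    have h2 : 5 ≤ m := by omega
    refine ⟨by omega, ?_⟩
    calc 8 = 4 * 2 := rfl
      _ ≤ (m - 1) * ((insert 1 (n.primeFactors ∪ C)).card - 9) := Nat.mul_le_mul (by (clear * - ha hm; omega)) (by omega)

/-- the index of the torus modulo `Φ₉(x)` -/
theorem nine_of {R : Type*} [CommRing R] {x : R} (h : x ^ 6 + x ^ 3 + 1 = 0) :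
    x ^ 36 * ((x ^ 2 - 1) * (x ^ 5 - 1) * (x ^ 6 - 1) * (x ^ 8 - 1) * (x ^ 12 - 1) * (x ^ 3 - 1)) = 9 := by
  have h9 : x ^ 9 = 1 := by linear_combination (x ^ 3 - 1) * h
  have h36 : x ^ 36 = 1 := by
    rw [show x ^ 36 = (x ^ 9) ^ 4 by ring, h9, one_pow]
  have h12 : x ^ 12 = x ^ 3 := by
    rw [show x ^ 12 = x ^ 9 * x ^ 3 by ring, h9, one_mul]
  have e1 : (x ^ 2 - 1) * (x ^ 5 - 1) * (x ^ 8 - 1) = x ^ 6 - 1 := by
    have h15 : x ^ 15 = x ^ 6 := by rw [show x ^ 15 = x ^ 9 * x ^ 6 by ring, h9, one_mul]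
    have h13 : x ^ 13 = x ^ 4 := by rw [show x ^ 13 = x ^ 9 * x ^ 4 by ring, h9, one_mul]
    have h10 : x ^ 10 = x := by rw [show x ^ 10 = x ^ 9 * x by ring, h9, one_mul]
    linear_combination h15 - h13 - h10 + (x ^ 2 - x) * h
  have e2 : (x ^ 6 - 1) * (x ^ 3 - 1) = 3 := by linear_combination (x ^ 3 - 2) * h
  have e3 : (x ^ 6 - 1) * (x ^ 6 - 1) * (x ^ 3 - 1) * (x ^ 3 - 1) = 9 := by
    have : (x ^ 6 - 1) * (x ^ 6 - 1) * (x ^ 3 - 1) * (x ^ 3 - 1) =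
      ((x ^ 6 - 1) * (x ^ 3 - 1)) * ((x ^ 6 - 1) * (x ^ 3 - 1)) := by ring
    rw [this, e2]; norm_num
  rw [h36, h12]
  linear_combination (x ^ 6 - 1) * (x ^ 3 - 1) * (x ^ 3 - 1) * e1 + e3

/-- three even composite orders -/
theorem three_even {X : Type u} [Group X] {F : Type u} [Field F] [Finite F]
    (h1 : ∀ p : ℕ, Fact p.Prime → CharP F p → p ≠ 2 → HasOrd X 4 ∧ HasOrd X (2 * p) ∧ HasOrd X (4 * p))
    (h2 : (2 : F) = 0 → HasOrd X 4 ∧ HasOrd X 6 ∧ HasOrd X 12) :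
    ∃ C : Finset ℕ, C.card = 3 ∧ ∀ n ∈ C, HasOrd X n ∧ ¬ n.Prime ∧ 2 ∣ n := by
  obtain ⟨p, hp⟩ := CharP.exists F
  have hpr : p.Prime := CharP.char_is_prime F p
  have hf : Fact p.Prime := ⟨hpr⟩
  by_cases hp2 : p = 2
  · subst hp2
    obtain ⟨a, b, c⟩ := h2 (by exact_mod_cast CharP.cast_eq_zero F 2)
    refine ⟨{4, 6, 12}, by decide, ?_⟩
    simp only [Finset.mem_insert, Finset.mem_singleton, forall_eq_or_imp, forall_eq]
    exact ⟨⟨a, by decide, by decide⟩, ⟨b, by decide, by decide⟩, ⟨c, by decide, by decide⟩⟩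
  · obtain ⟨a, b, c⟩ := h1 p hf hp hp2
    have h3 := hpr.two_le
    have hnp : ∀ k, 2 ≤ k → ¬ (k * p).Prime := fun k hk => Nat.not_prime_mul (by omega) hpr.ne_one
    refine ⟨{4, 2 * p, 4 * p}, ?_, ?_⟩
    · rw [Finset.card_insert_of_notMem, Finset.card_pair]
      · omega
      · simp only [Finset.mem_insert, Finset.mem_singleton, not_or]
        omega
    · simp only [Finset.mem_insert, Finset.mem_singleton, forall_eq_or_imp, forall_eq]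
      exact ⟨⟨a, by decide, by decide⟩, ⟨b, hnp 2 le_rfl, dvd_mul_right _ _⟩,
        ⟨c, hnp 4 (by norm_num), (by norm_num : 2 ∣ 4).mul_right p⟩⟩

/-- the index of the torus of `E₆(q)` -/
def idxE (q : ℕ) : ℕ :=
  q ^ 36 * ((q ^ 2 - 1) * (q ^ 5 - 1) * (q ^ 6 - 1) * (q ^ 8 - 1) * (q ^ 12 - 1) * (q ^ 3 - 1))

/-- the index of the torus of `²E₆(q)` -/
def idxT (q : ℕ) : ℕ :=
  q ^ 36 * ((q ^ 2 - 1) * (q ^ 5 + 1) * (q ^ 6 - 1) * (q ^ 8 - 1) * (q ^ 12 - 1) * (q ^ 3 + 1))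

theorem cast_sub {q : ℕ} (hq : 1 ≤ q) (k : ℕ) : ((q ^ k - 1 : ℕ) : ℤ) = (q : ℤ) ^ k - 1 := by
  rw [Nat.cast_sub (Nat.one_le_pow _ _ hq)]
  push_cast
  ring

theorem idxE_mod {q a N : ℕ} (hq : 1 ≤ q) (ha : a ∣ N) (hN : (N : ℤ) = 1 + (q : ℤ) ^ 3 + (q : ℤ) ^ 6) :
    (((idxE q : ℕ) : ℤ) : ZMod a) = (9 : ℕ) := by
  have h1 : ((q : ZMod a)) ^ 6 + (q : ZMod a) ^ 3 + 1 = 0 := by
    have h2 := (ZMod.natCast_eq_zero_iff N a).2 ha
    have h3 : ((N : ℤ) : ZMod a) = 0 := by rw [Int.cast_natCast, h2]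
    rw [hN] at h3
    push_cast at h3
    linear_combination h3
  have h4 := nine_of h1
  unfold idxE
  simp only [Nat.cast_mul, cast_sub hq, Nat.cast_pow]
  push_cast
  exact h4

theorem idxT_mod {q a N : ℕ} (hq : 1 ≤ q) (ha : a ∣ N) (hN : (N : ℤ) = 1 - (q : ℤ) ^ 3 + (q : ℤ) ^ 6) :
    (((idxT q : ℕ) : ℤ) : ZMod a) = (9 : ℕ) := by
  have h1 : ((-(q : ZMod a))) ^ 6 + (-(q : ZMod a)) ^ 3 + 1 = 0 := by
    have h2 := (ZMod.natCast_eq_zero_iff N a).2 ha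
    have h3 : ((N : ℤ) : ZMod a) = 0 := by rw [Int.cast_natCast, h2]
    rw [hN] at h3
    push_cast at h3
    linear_combination h3
  have h4 := nine_of h1
  unfold idxT
  simp only [Nat.cast_mul, cast_sub hq, Nat.cast_pow]
  push_cast
  linear_combination h4

theorem card_primes {q n : ℕ} (hq : 2 ≤ q) (hn : n ≠ 0) (h1 : q * (q ^ 2 - 1) ∣ n) (E : Finset ℕ) (hE5 : E.card = 5)
    (hE : ∀ e ∈ E, 3 ≤ e ∧ ¬ (q = 2 ∧ e = 6)) (hd : ∀ e ∈ E, ∀ r, Prim q e r → r ∣ n) :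
    7 ≤ n.primeFactors.card := by
  have h2 := card_add_le hq hn h1 E hE hd
  have h3 := two_le_card hq
  omega

/-- **The row `E₆`.** -/
theorem big_e6 {F : Type} [Field F] [Fintype F] : Big (chevE6.group F) := by
  obtain ⟨q, hq⟩ : ∃ q, Fintype.card F = q := ⟨_, rfl⟩
  have hq2 : 2 ≤ q := by rw [← hq]; exact Fintype.one_lt_card
  set N := q ^ 6 + q ^ 3 + 1 with hNdef
  have hN : (N : ℤ) = 1 + (q : ℤ) ^ 3 + (q : ℤ) ^ 6 := by rw [hNdef]; push_cast; ring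
  have hE := exact_E6_9 hq hN
  set d := Nat.gcd 3 (q - 1) with hd
  have hd3 : d ∣ 3 := Nat.gcd_dvd_left _ _
  have hd0 : 0 < d := Nat.pos_of_dvd_of_pos hd3 (by norm_num)
  have hdN : d ∣ N := by
    have h1 : (q : ZMod d) = 1 := by
      have h7 := (ZMod.natCast_eq_zero_iff (q - 1) d).2 (Nat.gcd_dvd_right _ _)
      rw [Nat.cast_sub (by omega), Nat.cast_one] at h7
      exact sub_eq_zero.1 h7
    rw [← ZMod.natCast_eq_zero_iff, hNdef]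
    push_cast
    rw [h1]
    have h3 := (ZMod.natCast_eq_zero_iff 3 d).2 hd3
    push_cast at h3
    linear_combination h3
  obtain ⟨a, ha⟩ := hdN
  have hNa : N / d = a := by rw [ha, Nat.mul_div_cancel_left _ hd0]
  rw [hNa] at hE
  have hN73 : 73 ≤ N := by
    have h1 : 2 ^ 6 ≤ q ^ 6 := Nat.pow_le_pow_left hq2 6
    have h2 : 2 ^ 3 ≤ q ^ 3 := Nat.pow_le_pow_left hq2 3
    omega
  have hdle : d ≤ 3 := Nat.le_of_dvd (by norm_num) hd3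
  have ha46 : 46 ≤ a := by
    by_cases h2 : q = 2
    · subst h2
      have : d = 1 := by rw [hd]; decide
      rw [this, one_mul] at ha
      omega
    · have h1 : 3 ^ 6 ≤ q ^ 6 := Nat.pow_le_pow_left (by omega) 6
      have h3 : N ≤ 3 * a := by rw [ha]; exact Nat.mul_le_mul_right _ hdle
      omega
  have hodd : Odd a := by
    have h1 : Odd N := by
      rw [hNdef]
      rcases q.even_or_odd with h | h
      · exact ((h.pow_of_ne_zero (by norm_num)).add (h.pow_of_ne_zero (by norm_num))).add_one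
      · exact ((h.pow).add_odd (h.pow)).add_one
    rw [ha] at h1
    exact (Nat.odd_mul.1 h1).2
  have hcard : Nat.card ↥(chevE6.group F) = a * idxE q := by
    have h1 := Cfsg.Agent.S1063.result (F := F) hq
    have h2 : q ^ 9 - 1 = (q ^ 3 - 1) * (d * a) := by
      rw [← ha]
      zify [Nat.one_le_pow 9 q (by omega), Nat.one_le_pow 3 q (by omega)]
      rw [hN]
      ring
    rw [← hd, h2] at h1
    apply Nat.eq_of_mul_eq_mul_left hd0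
    rw [h1]
    unfold idxE
    ring
  have hn0 : idxE q ≠ 0 := by
    intro h
    rw [h, mul_zero] at hcard
    exact Nat.card_pos.ne' hcard
  obtain ⟨C, hC3, hC⟩ := three_even (X := ↥(chevE6.group F)) (F := F)
    (fun p hp hc h => Cfsg.Agent.H92.ExcOrd.e6_odd (F := F) p h) (fun h => Cfsg.Agent.H92.ExcOrd.e6_two h)
  have h7 : 7 ≤ (idxE q).primeFactors.card := by
    have hm : q * (q ^ 2 - 1) ∣ idxE q := by
      refine Nat.mul_dvd_mul (dvd_pow_self q (by norm_num)) ?_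
      simp only [mul_assoc]
      exact dvd_mul_right _ _
    refine card_primes hq2 hn0 hm {3, 4, 5, 8, 12} (by decide) (by simp only [_root_.Finset.mem_insert, _root_.Finset.mem_singleton, _root_.not_and, _root_.forall_eq_or_imp, _root_.Std.le_refl, _root_.Nat.reduceEqDiff, _root_.not_false_eq_true, _root_.implies_true, _root_.and_self, _root_.Nat.reduceLeDiff, _root_.forall_eq]) ?_
    have key : ∀ e r k, e ∣ k → q ^ k - 1 ∣ idxE q → Prim q e r → r ∣ idxE q :=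
      fun e r k hek hdv hr => (hr.dvd hek).trans hdv
    have d5 : q ^ 5 - 1 ∣ idxE q := ⟨q ^ 36 * ((q ^ 2 - 1) * (q ^ 6 - 1) * (q ^ 8 - 1) * (q ^ 12 - 1) * (q ^ 3 - 1)),
      by unfold idxE; ring⟩
    have d8 : q ^ 8 - 1 ∣ idxE q := ⟨q ^ 36 * ((q ^ 2 - 1) * (q ^ 5 - 1) * (q ^ 6 - 1) * (q ^ 12 - 1) * (q ^ 3 - 1)),
      by unfold idxE; ring⟩
    have d12 : q ^ 12 - 1 ∣ idxE q := ⟨q ^ 36 * ((q ^ 2 - 1) * (q ^ 5 - 1) * (q ^ 6 - 1) * (q ^ 8 - 1) * (q ^ 3 - 1)),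
      by unfold idxE; ring⟩
    simp only [Finset.mem_insert, Finset.mem_singleton, forall_eq_or_imp, forall_eq]
    exact ⟨fun r => key 3 r 12 (by norm_num) d12, fun r => key 4 r 12 (by norm_num) d12,
      fun r => key 5 r 5 (by norm_num) d5, fun r => key 8 r 8 (by norm_num) d8,
      fun r => key 12 r 12 (by norm_num) d12⟩
  exact big_of_tor hE ha46 hodd hcard (idxE_mod (by omega) ⟨d, by rw [ha, mul_comm]⟩ hN) C hC (by omega)

/-! ### `²E₆(2)` -/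

section Two

open Cfsg.Agent.H46.MS Cfsg.Agent.ChevalleyStructure Cfsg.Agent.ChevalleyStructure.Elts
open Cfsg.Agent.ChevalleyStructure.SL2Hom (up lo)
open Cfsg.Agent.H494.TwE6Five (psi psi_mem f1 f6 f1_up f1_lo f6_up f6_lo psi_apply exists_hom)
open Cfsg.Agent.ChevalleyStructure.E6Fixed (hE6 x_mem)

variable {K : Type} [Field K] [Fintype K]

/-- orthogonality of the pair `(p₁, p₆)` and the subsystem `A₂` of `p₂, p₄` -/
theorem orth_tab : ∀ r ∈ [56, 15, 36, 35], ∀ i j : Fin 3, i ≠ j →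
    r < chevE6.nroots ∧ rt chevE6 39 46 47 i j < chevE6.nroots ∧
      Cfsg.Agent.H92.ExcSL2.OrthB chevE6 r (rt chevE6 39 46 47 i j) = true := by
  decide +kernel

/-- a root element of the subsystem commutes with the twisted `SL₂(K)` -/
theorem commute_psi (φ : K →+* K) (i j : Fin 3) (hij : i ≠ j) (t : K) (A : Matrix.SpecialLinearGroup (Fin 2) K) :
    Commute (psi φ A) (xG hE6 (rt chevE6 39 46 47 i j) t) := by
  have key : ∀ r ∈ [56, 15, 36, 35], ∀ s : K, Commute (xG hE6 r s) (xG hE6 (rt chevE6 39 46 47 i j) t) := by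
    intro r hr s
    obtain ⟨h1, h2, h3⟩ := orth_tab r hr i j hij
    exact Cfsg.Agent.H92.ExcSL2.xG_commute hE6 h1 h2 h3 s t
  have h1 : (Subgroup.centralizer {xG hE6 (rt chevE6 39 46 47 i j) t}).comap (psi φ) = ⊤ := by
    refine Cfsg.Agent.H494.TwE6Five.sl_closure (fun s => ?_) (fun s => ?_)
    · rw [Subgroup.mem_comap, Subgroup.mem_centralizer_singleton_iff, psi_apply, f1_up, f6_up]
      exact ((key 56 (by simp) s).mul_left (key 36 (by simp) _)).eq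
    · rw [Subgroup.mem_comap, Subgroup.mem_centralizer_singleton_iff, psi_apply, f1_lo, f6_lo]
      exact ((key 15 (by simp) s).mul_left (key 35 (by simp) _)).eq
  have h2 : A ∈ (Subgroup.centralizer {xG hE6 (rt chevE6 39 46 47 i j) t}).comap (psi φ) := by
    rw [h1]; exact Subgroup.mem_top A
  rw [Subgroup.mem_comap, Subgroup.mem_centralizer_singleton_iff] at h2
  exact h2

theorem center_sl {R : Type*} [Field R] {n : ℕ} (h : ∀ c : R, c ^ n = 1 → c = 1)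
    {A : Matrix.SpecialLinearGroup (Fin n) R} (hA : A ∈ Subgroup.center (Matrix.SpecialLinearGroup (Fin n) R)) :
    A = 1 := by
  obtain ⟨c, hc, h2⟩ := Matrix.SpecialLinearGroup.mem_center_iff.1 hA
  rw [Fintype.card_fin] at hc
  rw [h c hc, map_one] at h2
  exact Subtype.ext h2.symm

end Two

section Two'

open scoped commutatorElement

open Cfsg.Agent.H46.MS Cfsg.Agent.ChevalleyStructure Cfsg.Agent.ChevalleyStructure.Elts
open Cfsg.Agent.ChevalleyStructure.SL2Hom (up lo)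
open Cfsg.Agent.H494.TwE6Five (psi psi_mem f1 f6 f1_up f1_lo f6_up f6_lo psi_apply exists_hom)
open Cfsg.Agent.ChevalleyStructure.E6Fixed (hE6 x_mem)

variable {K : Type} [Field K] [Fintype K]

theorem comm_mem {G : Type*} [Group G] {S : Subgroup G} {x y : G} (hx : x ∈ S) (hy : y ∈ S) : ⁅x, y⁆ ∈ S := by
  rw [commutatorElement_def]
  exact mul_mem (mul_mem (mul_mem hx hy) (inv_mem hx)) (inv_mem hy)

omit [Fintype K] in
theorem mem_tw (f : ZMod 2 →+* K) (i j : Fin 3) (hij : i ≠ j) (t : ZMod 2) :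
    rx hE6 f 39 46 47 i j t ∈ twistedE6 K 2 := by
  have hf : ∀ t : ZMod 2, (f t) ^ 2 = f t := by
    intro t
    rw [← map_pow]
    congr 1
    revert t; decide
  have h1 : ∀ i j : Fin 3, i ≠ j → rt chevE6 39 46 47 i j ∈ [46, 25, 39, 32] → ∀ t : ZMod 2,
      rx hE6 f 39 46 47 i j t ∈ twistedE6 K 2 := fun i j _ h t => x_mem h (hf t)
  have hS := rx_stein hE6 f isA2_E6
  by_cases h2 : i = 0 ∧ j = 2
  · obtain ⟨rfl, rfl⟩ := h2
    have h3 := hS.br 0 1 2 (by decide) (by decide) (by decide) t 1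
    rw [mul_one] at h3
    rw [← h3]
    exact comm_mem (h1 0 1 (by decide) (by decide +kernel) t) (h1 1 2 (by decide) (by decide +kernel) 1)
  · by_cases h3 : i = 2 ∧ j = 0
    · obtain ⟨rfl, rfl⟩ := h3
      have h3 := hS.br 2 1 0 (by decide) (by decide) (by decide) t 1
      rw [mul_one] at h3
      rw [← h3]
      exact comm_mem (h1 2 1 (by decide) (by decide +kernel) t) (h1 1 0 (by decide) (by decide +kernel) 1)
    · refine h1 i j hij ?_ t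
      revert i j
      decide +kernel

/-- `SL₃(2)` in `²E₆(2)`, commuting with the twisted `SL₂(4)` -/
theorem exists_pi [CharP K 2] : ∃ π : Matrix.SpecialLinearGroup (Fin 3) (ZMod 2) →* GL chevE6.Idx K,
    Function.Injective π ∧ (∀ g, π g ∈ twistedE6 K 2) ∧
      ∀ (φ : K →+* K) (A : Matrix.SpecialLinearGroup (Fin 2) K) (g : Matrix.SpecialLinearGroup (Fin 3) (ZMod 2)),
        Commute (psi φ A) (π g) := by
  obtain ⟨π, h1, h2⟩ := exists_sl_three hE6 (ZMod.castHom (dvd_refl 2) K) isA2_E6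
  refine ⟨π, ?_, ?_, ?_⟩
  · rw [injective_iff_map_eq_one]
    intro A hA
    exact center_sl (by decide) (h2 hA)
  · intro g
    have h3 : π.range ≤ twistedE6 K 2 := by
      rw [h1, Subgroup.closure_le]
      rintro _ ⟨i, j, hij, t, rfl⟩
      exact mem_tw _ i j hij t
    exact h3 ⟨g, rfl⟩
  · intro φ A g
    have h3 : π.range ≤ Subgroup.centralizer {psi φ A} := by
      rw [h1, Subgroup.closure_le]
      rintro _ ⟨i, j, hij, t, rfl⟩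
      rw [SetLike.mem_coe, Subgroup.mem_centralizer_singleton_iff]
      exact (commute_psi φ i j hij _ A).eq.symm
    have h4 := h3 ⟨g, rfl⟩
    rw [Subgroup.mem_centralizer_singleton_iff] at h4
    exact h4.symm

/-- an element of order four in `SL₃(2)` -/
theorem exists_four : ∃ g : Matrix.SpecialLinearGroup (Fin 3) (ZMod 2), orderOf g = 4 := by
  refine ⟨⟨!![1, 1, 0; 0, 1, 1; 0, 0, 1], by decide +kernel⟩, ?_⟩
  have : Fact (Nat.Prime 2) := ⟨Nat.prime_two⟩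
  refine orderOf_eq_prime_pow (p := 2) (n := 1) ?_ ?_
  · decide
  · decide

theorem card_sl_three : Nat.card (Matrix.SpecialLinearGroup (Fin 3) (ZMod 2)) = 168 := by
  have h := Cfsg.Agent.S0242.result (F := ZMod 2) (ZMod.card 2) 3 (by norm_num)
  rw [Fin.prod_univ_three] at h
  generalize Nat.card (Matrix.SpecialLinearGroup (Fin 3) (ZMod 2)) = n at h ⊢
  simpa only [_root_.Nat.add_one_sub_one, _root_.one_mul, _root_.Nat.reducePow, _root_.Fin.isValue, _root_.Fin.coe_ofNat_eq_mod, _root_.Nat.zero_mod, _root_.pow_zero, _root_.Nat.one_mod, _root_.pow_one, _root_.Nat.reduceSub, _root_.Nat.reduceMul, _root_.Nat.mod_succ] using h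

theorem card_sl_two (hK : Fintype.card K = 4) : Nat.card (Matrix.SpecialLinearGroup (Fin 2) K) = 60 := by
  have h := Cfsg.Agent.S0242.result (F := K) hK 2 (by norm_num)
  rw [Fin.prod_univ_two] at h
  norm_num at h
  omega

theorem psi_injective [CharP K 2] (hK : Fintype.card K = 4) (φ : K →+* K) : Function.Injective (psi φ) := by
  rw [injective_iff_map_eq_one]
  intro A hA
  rcases Cfsg.Agent.H494.TwE6Five.sl_normal (by omega) (psi φ).ker inferInstance with h | h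
  · exact absurd h (Cfsg.Agent.H494.TwE6Five.psi_ker_ne φ)
  · refine center_sl (fun c hc => ?_) (h hA)
    have h2 : (c - 1) ^ 2 = 0 := by
      have h3 : (2 : K) = 0 := by exact_mod_cast CharP.cast_eq_zero K 2
      linear_combination hc + (1 - c) * h3
    have h4 := pow_eq_zero_iff (two_ne_zero) |>.1 h2
    exact sub_eq_zero.1 h4

/-- products of commuting elements -/
theorem hasOrd_mul (hK : Fintype.card K = 4) {a b : ℕ} (ha : HasOrd (Matrix.SpecialLinearGroup (Fin 2) K) a)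
    (hb : HasOrd (Matrix.SpecialLinearGroup (Fin 3) (ZMod 2)) b) (hab : a.Coprime b) :
    HasOrd (twistedE6 K 2) (a * b) := by
  have hK' : Fintype.card K = 2 ^ 2 := by rw [hK]; norm_num
  have h2 : CharP K 2 := by
    obtain ⟨p, hp⟩ := CharP.exists K
    have hpr : p.Prime := CharP.char_is_prime K p
    have h1 : p ∣ 4 := by
      rw [← CharP.cast_eq_zero_iff K p, ← hK]
      exact FiniteField.cast_card_eq_zero K
    have h3 : p ∣ 2 ^ 2 := h1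
    rw [← (Nat.prime_dvd_prime_iff_eq hpr Nat.prime_two).1 (hpr.dvd_of_dvd_pow h3)]
    exact hp
  obtain ⟨φ, hφ⟩ := TwistedE6Sigma.exists_frob (K := K) (m := 2) Nat.prime_two.isPrimePow two_ne_zero hK'
  obtain ⟨π, hπ, hπm, hπc⟩ := exists_pi (K := K)
  obtain ⟨A, hA⟩ := ha
  obtain ⟨g, hg⟩ := hb
  refine Cfsg.Agent.H868.KSL2.hasOrd_of_mem (x := psi φ A * π g)
    (mul_mem (psi_mem hφ A) (hπm g)) ?_
  rw [(hπc φ A g).orderOf_mul_eq_mul_orderOf_of_coprime, orderOf_injective _ (psi_injective hK φ),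
    orderOf_injective _ hπ, hA, hg]
  rw [orderOf_injective _ (psi_injective hK φ), orderOf_injective _ hπ, hA, hg]
  exact hab

/-- the orders used for `²E₆(2)` -/
def S17 : Finset ℕ := {1, 2, 3, 4, 5, 6, 7, 10, 11, 12, 13, 14, 15, 17, 20, 21, 35}

theorem big_te6_two (hK : Fintype.card K = 4) : Big (twistedE6 K 2) := by
  have hK' : Fintype.card K = 2 ^ 2 := by rw [hK]; norm_num
  have hF' : Nat.card K = 2 ^ 2 := by rw [Nat.card_eq_fintype_card, hK']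
  have hE := exact_tE6_18 (F := K) (q := 2) Nat.prime_two.isPrimePow hK' (N := 57) (by norm_num)
  have e19 : 57 / Nat.gcd 3 (2 + 1) = 19 := by decide
  rw [e19] at hE
  have hcard : Nat.card ↥(twistedE6 K 2) = 19 * idxT 2 := by
    have h1 := Cfsg.Agent.S1066.result (K := K) (q := 2) Nat.prime_two.isPrimePow hK'
    have e3 : Nat.gcd 3 (2 + 1) = 3 := by decide
    rw [e3] at h1
    unfold idxT
    norm_num only [] at h1 ⊢
    omega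
  have h2 : (2 : K) = 0 := by
    have h1 : ((Fintype.card K : ℕ) : K) = 0 := FiniteField.cast_card_eq_zero K
    rw [hK] at h1
    have h3 : (2 : K) ^ 2 = 0 := by
      have h4 : ((4 : ℕ) : K) = (2 : K) ^ 2 := by norm_num
      rw [← h4, h1]
    exact pow_eq_zero_iff (two_ne_zero) |>.1 h3
  obtain ⟨o4, o6, o12⟩ := Cfsg.Agent.H868.KTwE6.ords_two Nat.prime_two.isPrimePow hF' h2
  have s2 := hasOrd_prime (G := Matrix.SpecialLinearGroup (Fin 2) K) Nat.prime_two (by rw [card_sl_two hK]; norm_num)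
  have s3 := hasOrd_prime (G := Matrix.SpecialLinearGroup (Fin 2) K) Nat.prime_three (by rw [card_sl_two hK]; norm_num)
  have s5 := hasOrd_prime (G := Matrix.SpecialLinearGroup (Fin 2) K) Nat.prime_five (by rw [card_sl_two hK]; norm_num)
  have t3 := hasOrd_prime (G := Matrix.SpecialLinearGroup (Fin 3) (ZMod 2)) Nat.prime_three (by rw [card_sl_three]; norm_num)
  have t7 := hasOrd_prime (G := Matrix.SpecialLinearGroup (Fin 3) (ZMod 2)) (by norm_num : Nat.Prime 7)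
    (by rw [card_sl_three]; norm_num)
  have t4 : HasOrd (Matrix.SpecialLinearGroup (Fin 3) (ZMod 2)) 4 := exists_four
  have o20 : HasOrd (twistedE6 K 2) 20 := hasOrd_mul hK s5 t4 (by norm_num)
  have pr : ∀ p : ℕ, p.Prime → p ∣ 19 * idxT 2 → HasOrd (twistedE6 K 2) p := fun p hp hd =>
    hasOrd_prime hp (by rw [hcard]; exact hd)
  refine big_of_exact_orders hE (by norm_num : 9 < 19) (by norm_num) (N := (idxT 2 : ℕ)) (by rw [hcard]; push_cast; ring)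
    (idxT_mod (N := 57) (by norm_num) (by norm_num) (by norm_num)) S17 ?_ ?_ ?_
  · simp only [S17, Finset.mem_insert, Finset.mem_singleton, forall_eq_or_imp, forall_eq]
    exact ⟨hasOrd_one _, pr 2 (by norm_num) (by unfold idxT; norm_num), pr 3 (by norm_num) (by unfold idxT; norm_num),
      o4, pr 5 (by norm_num) (by unfold idxT; norm_num), o6, pr 7 (by norm_num) (by unfold idxT; norm_num),
      o20.of_dvd (by norm_num) (by norm_num), pr 11 (by norm_num) (by unfold idxT; norm_num), o12,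
      pr 13 (by norm_num) (by unfold idxT; norm_num), hasOrd_mul hK s2 t7 (by norm_num),
      hasOrd_mul hK s5 t3 (by norm_num), pr 17 (by norm_num) (by unfold idxT; norm_num), o20,
      hasOrd_mul hK s3 t7 (by norm_num), hasOrd_mul hK s5 t7 (by norm_num)⟩
  · decide
  · intro m hm
    have : m = 2 := by omega
    subst this
    exact ⟨le_rfl, by decide⟩

end Two'

/-- **The row `²E₆`.** -/
theorem big_te6 {K : Type} [Field K] [Fintype K] {q : ℕ} (hq : IsPrimePow q) (hK : Fintype.card K = q ^ 2) :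
    Big (twistedE6 K q) := by
  have hq2 : 2 ≤ q := hq.two_le
  by_cases h2 : q = 2
  · subst h2
    exact big_te6_two (by rw [hK]; norm_num)
  have hq3 : 3 ≤ q := by omega
  have hF' : Nat.card K = q ^ 2 := by rw [Nat.card_eq_fintype_card, hK]
  have hle : q ^ 3 ≤ q ^ 6 + 1 := by
    have := Nat.pow_le_pow_right (show 0 < q by omega) (show 3 ≤ 6 by norm_num)
    omega
  set N := q ^ 6 + 1 - q ^ 3 with hNdef
  have hN : (N : ℤ) = 1 - (q : ℤ) ^ 3 + (q : ℤ) ^ 6 := by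
    rw [hNdef, Nat.cast_sub hle]; push_cast; ring
  have hE := exact_tE6_18 hq hK hN
  set d := Nat.gcd 3 (q + 1) with hd
  have hd3 : d ∣ 3 := Nat.gcd_dvd_left _ _
  have hd0 : 0 < d := Nat.pos_of_dvd_of_pos hd3 (by norm_num)
  have hdN : d ∣ N := by
    have h1 : (q : ZMod d) = -1 := by
      have h7 := (ZMod.natCast_eq_zero_iff (q + 1) d).2 (Nat.gcd_dvd_right _ _)
      push_cast at h7
      linear_combination h7
    rw [← ZMod.natCast_eq_zero_iff]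
    have h3 : ((N : ℤ) : ZMod d) = 0 := by
      rw [hN]
      push_cast
      rw [h1]
      have h3 := (ZMod.natCast_eq_zero_iff 3 d).2 hd3
      push_cast at h3
      linear_combination h3
    exact_mod_cast h3
  obtain ⟨a, ha⟩ := hdN
  have hNa : N / d = a := by rw [ha, Nat.mul_div_cancel_left _ hd0]
  rw [hNa] at hE
  have hN73 : 138 ≤ N := by
    have h1 : 3 ^ 3 ≤ q ^ 3 := Nat.pow_le_pow_left hq3 3
    have h3 : q ^ 6 = q ^ 3 * q ^ 3 := by ring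
    have h4 : 27 * q ^ 3 ≤ q ^ 3 * q ^ 3 := Nat.mul_le_mul_right _ h1
    omega
  have hdle : d ≤ 3 := Nat.le_of_dvd (by norm_num) hd3
  have ha46 : 46 ≤ a := by
    have h3 : N ≤ 3 * a := by rw [ha]; exact Nat.mul_le_mul_right _ hdle
    omega
  have hodd : Odd a := by
    have h1 : Odd (N : ℤ) := by
      have e : (N : ℤ) = (q : ℤ) ^ 3 * ((q : ℤ) ^ 3 - 1) + 1 := by rw [hN]; ring
      rw [e]
      have h2 : Even ((q : ℤ) ^ 3 * ((q : ℤ) ^ 3 - 1)) := by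
        rcases Int.even_or_odd ((q : ℤ) ^ 3) with h | h
        · exact h.mul_right _
        · exact (h.sub_odd odd_one).mul_left _
      exact h2.add_one
    have h1' : Odd N := by exact_mod_cast h1
    rw [ha] at h1'
    exact (Nat.odd_mul.1 h1').2
  have hcard : Nat.card ↥(twistedE6 K q) = a * idxT q := by
    have h1 := Cfsg.Agent.S1066.result (K := K) hq hK
    have h2 : q ^ 9 + 1 = (q ^ 3 + 1) * (d * a) := by
      rw [← ha]
      zify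
      rw [hN]
      ring
    rw [← hd, h2] at h1
    apply Nat.eq_of_mul_eq_mul_left hd0
    rw [h1]
    unfold idxT
    ring
  have hn0 : idxT q ≠ 0 := by
    intro h
    rw [h, mul_zero] at hcard
    exact Nat.card_pos.ne' hcard
  obtain ⟨C, hC3, hC⟩ := three_even (X := ↥(twistedE6 K q)) (F := K)
    (fun p hp hc h => Cfsg.Agent.H868.KTwE6.ords_odd hq hF' p h) (fun h => Cfsg.Agent.H868.KTwE6.ords_two hq hF' h)
  have h7 : 7 ≤ (idxT q).primeFactors.card := by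
    have hm : q * (q ^ 2 - 1) ∣ idxT q := by
      refine Nat.mul_dvd_mul (dvd_pow_self q (by norm_num)) ?_
      simp only [mul_assoc]
      exact dvd_mul_right _ _
    refine card_primes hq2 hn0 hm {3, 4, 8, 10, 12} (by decide) (by simp only [_root_.Finset.mem_insert, _root_.Finset.mem_singleton, _root_.not_and, _root_.forall_eq_or_imp, _root_.Std.le_refl, _root_.Nat.reduceEqDiff, _root_.not_false_eq_true, _root_.implies_true, _root_.and_self, _root_.Nat.reduceLeDiff, _root_.forall_eq]) ?_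
    have key : ∀ e r k, e ∣ k → q ^ k - 1 ∣ idxT q → Prim q e r → r ∣ idxT q :=
      fun e r k hek hdv hr => (hr.dvd hek).trans hdv
    have d5 : q ^ 5 + 1 ∣ idxT q := ⟨q ^ 36 * ((q ^ 2 - 1) * (q ^ 6 - 1) * (q ^ 8 - 1) * (q ^ 12 - 1) * (q ^ 3 + 1)),
      by unfold idxT; ring⟩
    have d8 : q ^ 8 - 1 ∣ idxT q := ⟨q ^ 36 * ((q ^ 2 - 1) * (q ^ 5 + 1) * (q ^ 6 - 1) * (q ^ 12 - 1) * (q ^ 3 + 1)),
      by unfold idxT; ring⟩
    have d12 : q ^ 12 - 1 ∣ idxT q := ⟨q ^ 36 * ((q ^ 2 - 1) * (q ^ 5 + 1) * (q ^ 6 - 1) * (q ^ 8 - 1) * (q ^ 3 + 1)),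
      by unfold idxT; ring⟩
    simp only [Finset.mem_insert, Finset.mem_singleton, forall_eq_or_imp, forall_eq]
    exact ⟨fun r => key 3 r 12 (by norm_num) d12, fun r => key 4 r 12 (by norm_num) d12,
      fun r => key 8 r 8 (by norm_num) d8,
      fun r hr => (hr.dvd_add (by norm_num) (by norm_num)).trans d5,
      fun r => key 12 r 12 (by norm_num) d12⟩
  exact big_of_tor hE ha46 hodd hcard (idxT_mod (by omega) ⟨d, by rw [ha, mul_comm]⟩ hN) C hC (by omega)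

end Cfsg.Agent.H605.ZerosE6

private theorem dce_7d4c3203bd12 : _root_.True := by
  try have : _root_.True := by simp only [_root_.Cfsg.Agent.H605.ZerosE6.S17.eq_1]
  exact _root_.True.intro
end

-- part: H442/ZerosJanko
section
set_option linter.all false
open scoped Cfsg.Agent.FastGrp

/-!
# S4895: the rows of the Janko groups (helper442)
-/

set_option autoImplicit false

namespace Cfsg.Agent.H442.ZerosJanko

open Subgroup Cfsg Cfsg.Agent.H92.KTools Cfsg.Agent.H771.KTools Cfsg.Agent.H504.Zeros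
  Cfsg.Agent.H504.ZeroTI

/-! ### `J₁` -/

theorem classes_j1 : 13 ≤ Nat.card (ConjClasses Spor.J1) := by
  have hfin : Finite Spor.J1 := Nat.finite_of_card_ne_zero (by
    rw [H413.JOneLocal.card_J1]; norm_num)
  have h4 : ¬ HasOrd Spor.J1 4 := fun h => by
    have := (H413.JOneSpec.exists_orderOf_iff 4).1 h
    revert this
    decide
  have hall : ∀ n ∈ ({1, 2, 3, 5, 6, 7, 10, 11, 15, 19} : Finset ℕ), HasOrd Spor.J1 n :=
    fun n hn => (H413.JOneSpec.exists_orderOf_iff n).2 hn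
  refine le_trans (by decide) (sum_le (G := Spor.J1) {1, 2, 3, 5, 6, 7, 10, 11, 15, 19}
    (fun n => if n = 5 ∨ n = 10 ∨ n = 15 then 2 else 1) ?_)
  intro n hn
  obtain ⟨g, hg⟩ := hall n hn
  by_cases h : n = 5 ∨ n = 10 ∨ n = 15
  · have key : ∃ j, n.Coprime j ∧ (j % 5 = 2 ∨ j % 5 = 3) ∧ ∃ m, n = m * 5 ∧ 0 < m := by
      rcases h with rfl | rfl | rfl
      · exact ⟨2, by decide, by decide, 1, by norm_num⟩
      · exact ⟨3, by decide, by decide, 2, by norm_num⟩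
      · exact ⟨2, by decide, by decide, 3, by norm_num⟩
    obtain ⟨j, hj, hj5, m, hm, hm0⟩ := key
    refine ⟨[g, g ^ j], by simp [h], ?_, ?_⟩
    · have h1 : orderOf (g ^ j) = n := by rw [Nat.Coprime.orderOf_pow (by rw [hg]; exact hj), hg]
      simp [hg, h1]
    · simp only [List.pairwise_cons, List.mem_singleton, forall_eq, List.not_mem_nil, false_imp_iff,
        implies_true, List.Pairwise.nil, and_true]
      intro hc
      have h5 : orderOf (g ^ m) = 5 := by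
        rw [orderOf_pow_of_dvd hm0.ne' (by rw [hg, hm]; exact dvd_mul_right m 5), hg, hm,
          Nat.mul_div_cancel_left 5 hm0]
      refine not_conj_five h4 h5 hj5 ?_
      have := pow_conj hc m
      rwa [← pow_mul, mul_comm, pow_mul] at this
  · exact ⟨[g], by simp [h], by simpa using hg, by simp⟩

theorem big_j1_model : Big Spor.J1 := by
  have hcard := H413.JOneLocal.card_J1
  have hfin : Finite Spor.J1 := Nat.finite_of_card_ne_zero (by rw [hcard]; norm_num)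
  have h19 : Fact (Nat.Prime 19) := ⟨by norm_num⟩
  obtain ⟨x, hx⟩ := (H413.JOneSpec.exists_orderOf_iff 19).2 (by decide)
  have hc := H713.card_centralizer_of_orders (p := 19)
    (H713.factorization_eq_one (by rw [hcard]; norm_num) (by rw [hcard]; norm_num))
    (fun y hy => by
      have h := H413.JOneSpec.orderOf_mem_J1 y
      revert hy
      generalize orderOf y = n at h
      intro hy
      fin_cases h <;> first | rfl | (exfalso; revert hy; decide)) hx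
  exact big_of_isolated (r := 19) (n := 9240) (e := 6) (m := 3) (k := 13) (by norm_num) hx hc
    (by rw [hcard]) (by norm_num) (by norm_num) (by norm_num) classes_j1 (by norm_num)

/-- **the row of `J₁`** -/
theorem j1 {S : Type*} [Group S] (h : Cfsg.Spor.IsoJ1 S) : Cfsg.Agent.H504.Zeros.Big S := by
  obtain ⟨e⟩ := h
  exact Big.of_equiv e big_j1_model

/-! ### `J₄` -/

theorem big_j4_model : Big Spor.J4 := by
  have hcard := NotCT.Orders.j4 (K := Spor.J4) ⟨MulEquiv.refl _⟩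
  have hfin : Finite Spor.J4 := Nat.finite_of_card_ne_zero (by rw [hcard]; norm_num)
  have h43 : Fact (Nat.Prime 43) := ⟨by norm_num⟩
  obtain ⟨x, hx⟩ := exists_prime_orderOf_dvd_card' (G := Spor.J4) 43 (by rw [hcard]; norm_num)
  exact big_of_isolated (r := 43) (n := 2018036535955292160) (e := 14) (m := 3) (k := 23)
    (by norm_num) hx (H723.Spor.JFour.cent_big (by simp) hx)
    (by rw [hcard]) (by norm_num) (by norm_num) (by norm_num) H723.Spor.JFour.card_classes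
    (by norm_num)

/-- **the row of `J₄`** -/
theorem j4 {S : Type*} [Group S] (h : Cfsg.Spor.IsoJ4 S) : Cfsg.Agent.H504.Zeros.Big S := by
  obtain ⟨e⟩ := h
  exact Big.of_equiv e big_j4_model

/-! ### `J₃` -/

theorem classes_j3 {S : Type*} [Group S] [Finite S] (h : Cfsg.Spor.IsoJ3 S) :
    15 ≤ Nat.card (ConjClasses S) := by
  classical
  obtain ⟨hcard, hM, -, -⟩ := Cfsg.Agent.CpAutJThree.base h
  have : Fact (Nat.Prime 2) := ⟨Nat.prime_two⟩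
  obtain ⟨t, ht⟩ := exists_prime_orderOf_dvd_card' (G := S) 2 (by rw [hcard]; norm_num)
  obtain ⟨-, hC, Q, v, ρ, M⟩ := hM t ht
  refine le_trans (by decide) (Cfsg.Agent.H710.VanCount.le_card_conjClasses_two
    {1, 2, 3, 4, 5, 6, 8, 10, 12, 17, 19} {5, 10, 17, 19} ?_ ?_)
  · intro n hn
    by_cases h9 : n ∈ ({1, 2, 3, 4, 5, 6, 8, 10, 12} : Finset ℕ)
    · exact Cfsg.Agent.H419.Spor.JModel.exists_orders' M n h9
    · have h3 : n = 17 ∨ n = 19 := by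
        simp only [Finset.mem_insert, Finset.mem_singleton] at hn h9
        omega
      have hp : n.Prime := by rcases h3 with rfl | rfl <;> norm_num
      have : Fact n.Prime := ⟨hp⟩
      exact exists_prime_orderOf_dvd_card' n (by
        rw [hcard]
        rcases h3 with rfl | rfl <;> norm_num)
  · intro n hn
    by_cases h9 : n ∈ ({5, 10} : Finset ℕ)
    · exact H713.Spor.JJ.two_versions rfl M n h9
    · have h3 : n = 17 ∨ n = 19 := by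
        simp only [Finset.mem_insert, Finset.mem_singleton] at hn h9
        omega
      have hp : n.Prime := by rcases h3 with rfl | rfl <;> norm_num
      have : Fact n.Prime := ⟨hp⟩
      obtain ⟨x, hx⟩ := exists_prime_orderOf_dvd_card' (G := S) n (by
        rw [hcard]
        rcases h3 with rfl | rfl <;> norm_num)
      have hc : Nat.card (centralizer ({x} : Set S)) = n := by
        rcases h3 with rfl | rfl
        · exact (H898.J3Cent.seventeen h hx).1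
        · exact H898.J3Cent.card_nineteen h hx
      have hA := cc_of_prime hp hx hc
      have hA' : Nat.card (zpowers x) = n := by rw [Nat.card_zpowers, hx]
      have hm : n = eIdx (zpowers x) * 2 + 1 := by
        rcases h3 with rfl | rfl
        · have h1 := eIdx_eq_mod hA (by rw [hA']; norm_num) (n := 2954880) (by rw [hcard, hA'])
          rw [hA'] at h1
          rw [h1]
        · have h1 := eIdx_eq_mod hA (by rw [hA']; norm_num) (n := 2643840) (by rw [hcard, hA'])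
          rw [hA'] at h1
          rw [h1]
      obtain ⟨s, hs, hs2, hsA⟩ := exists_reps hA (by rw [hA']; exact hm)
      obtain ⟨a, b, hab, hsab⟩ := Finset.card_eq_two.1 hs2
      have ho : ∀ g ∈ s, orderOf g = n := by
        intro g hg
        obtain ⟨h1, h2⟩ := hsA g hg
        have h4 : orderOf g ∣ n := by
          have := orderOf_dvd_natCard (⟨g, h1⟩ : zpowers x)
          rwa [← Subgroup.orderOf_coe, hA'] at this
        rcases (Nat.dvd_prime hp).1 h4 with h5 | h5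
        · exact absurd (orderOf_eq_one_iff.1 h5) h2
        · exact h5
      refine ⟨a, b, ho a (by rw [hsab]; simp), ho b (by rw [hsab]; simp), fun hc => hab ?_⟩
      exact hs a (by rw [hsab]; simp) b (by rw [hsab]; simp) hc

/-- **the row of `J₃`** -/
theorem j3 {S : Type*} [Group S] (h : Cfsg.Spor.IsoJ3 S) : Cfsg.Agent.H504.Zeros.Big S := by
  have hcard := NotCT.Orders.j3 h
  have hfin : Finite S := Nat.finite_of_card_ne_zero (by rw [hcard]; norm_num)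
  have h17 : Fact (Nat.Prime 17) := ⟨by norm_num⟩
  have h19 : Fact (Nat.Prime 19) := ⟨by norm_num⟩
  obtain ⟨x, hx⟩ := exists_prime_orderOf_dvd_card' (G := S) 17 (by rw [hcard]; norm_num)
  obtain ⟨y, hy⟩ := exists_prime_orderOf_dvd_card' (G := S) 19 (by rw [hcard]; norm_num)
  exact big_of_isolated2 (r := 17) (n := 2954880) (e := 8) (m := 2) (r' := 19) (n' := 2643840)
    (e' := 9) (m' := 2) (k := 15) (by norm_num) hx (H898.J3Cent.seventeen h hx).1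
    (by rw [hcard]) (by norm_num) (by norm_num) (by norm_num) (by norm_num) hy
    (H898.J3Cent.card_nineteen h hy) (by rw [hcard]) (by norm_num) (by norm_num) (by norm_num)
    (by norm_num) (classes_j3 h) (by norm_num)

/-! ### `J₂` -/

/-- **the row of `J₂`** -/
theorem j2 {S : Type*} [Group S] (h : Cfsg.Spor.IsoJ2 S) : Cfsg.Agent.H504.Zeros.Big S := by
  classical
  have hcard := NotCT.Orders.j2 h
  have hfin : Finite S := Nat.finite_of_card_ne_zero (by rw [hcard]; norm_num)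
  have h7 : Fact (Nat.Prime 7) := ⟨by norm_num⟩
  obtain ⟨t, u, Q, v, ρ, D⟩ := Cfsg.Agent.KFacts.J2.Facts.exists_dat_of h
  obtain ⟨e⟩ := h
  have horders : ∀ g : S, orderOf g ∈ ({1, 2, 3, 4, 5, 6, 7, 8, 10, 12, 15} : Finset ℕ) := by
    intro g
    rw [← MulEquiv.orderOf_eq e g]
    exact H379.J2Spec.orders_J2 (e g)
  have h15 : ∃ g : S, orderOf g = 15 := by
    have h1 : (15 : ℕ) ∈ Set.range (orderOf : Cfsg.Spor.J2 → ℕ) := by
      rw [H379.J2Spec.range_J2]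
      simp
    obtain ⟨g, hg⟩ := h1
    exact ⟨e.symm g, by rw [MulEquiv.orderOf_eq, hg]⟩
  have hk : 14 ≤ Nat.card (ConjClasses S) := by
    refine le_trans (by decide) (Cfsg.Agent.H710.VanCount.le_card_conjClasses_two
      {1, 2, 3, 4, 5, 6, 7, 8, 10, 12, 15} {2, 5, 10} ?_ ?_)
    · intro n hn
      by_cases h9 : n ∈ ({1, 2, 3, 4, 5, 6, 8, 10, 12} : Finset ℕ)
      · exact Cfsg.Agent.H419.Spor.JModel.exists_orders' D.M n h9
      · have h3 : n = 7 ∨ n = 15 := by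
          simp only [Finset.mem_insert, Finset.mem_singleton] at hn h9
          omega
        rcases h3 with rfl | rfl
        · exact exists_prime_orderOf_dvd_card' 7 (by rw [hcard]; norm_num)
        · exact h15
    · intro n hn
      rw [Finset.mem_insert] at hn
      rcases hn with rfl | hn
      · exact ⟨t, u, D.F.hz, D.F.hu, D.F.nconj⟩
      · exact H713.Spor.JJ.two_versions rfl D.M n hn
  -- the four elements
  obtain ⟨a, ha⟩ := exists_prime_orderOf_dvd_card' (G := S) 7 (by rw [hcard]; norm_num)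
  have hac := H713.card_centralizer_of_orders (p := 7)
    (H713.factorization_eq_one (by rw [hcard]; norm_num) (by rw [hcard]; norm_num))
    (fun y hy => by
      have h := horders y
      revert hy
      generalize orderOf y = n at h
      intro hy
      fin_cases h <;> first | rfl | (exfalso; revert hy; decide)) ha
  obtain ⟨x, hx5, hx, hxc, hxn⟩ : ∃ x : S, orderOf x = 10 ∧ x ^ 5 = t ∧
      centralizer ({x} : Set S) ≤ zpowers x ∧ ∀ g, g * x * g⁻¹ ≠ x ^ 3 :=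
    H713.Spor.JJ.exists_ten rfl D.M
  obtain ⟨b, hb4, hb⟩ := H713.Spor.JJ.exists_eight D.M
  have hbo : orderOf (b : S) = 8 := by
    rw [Subgroup.orderOf_coe]
    refine Cfsg.Agent.H419.Spor.JModel.orderOf_of_pow D.M (n := 4) (by norm_num) hb4
      fun p hp h2 hd => ?_
    exact absurd ((Nat.prime_dvd_prime_iff_eq hp Nat.prime_two).1
      (hp.dvd_of_dvd_pow (show p ∣ 2 ^ 2 from hd))) h2
  have hbc : Nat.card (centralizer ({(b : S)} : Set S)) ≤ 8 := by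
    refine (Subgroup.card_le_of_le
      (H713.Spor.JJ.cent_le rfl hb4 fun g hg => H713.Spor.JJ.cent_eight D.M hb4 hb hg)).trans ?_
    rw [Nat.card_zpowers, hbo]
  have hxc1 : Nat.card (centralizer ({x} : Set S)) ≤ 10 := by
    refine (Subgroup.card_le_of_le hxc).trans ?_
    rw [Nat.card_zpowers, hx5]
  have hx3o : orderOf (x ^ 3) = 10 := by
    rw [Nat.Coprime.orderOf_pow (by rw [hx5]; decide), hx5]
  have hxc3 : Nat.card (centralizer ({x ^ 3} : Set S)) ≤ 10 := by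
    refine (Subgroup.card_le_of_le ?_).trans hxc1
    intro g hg
    rw [mem_centralizer_singleton_iff] at hg ⊢
    have h1 : Commute g ((x ^ 3) ^ 7) := (show Commute g (x ^ 3) from hg).pow_right 7
    have h2 : (x ^ 3) ^ 7 = x := by
      rw [← pow_mul, show 3 * 7 = 10 * 2 + 1 from rfl, pow_succ, pow_mul, ← hx5, pow_orderOf_eq_one,
        one_pow, one_mul]
    rwa [h2] at h1
  have hord : ∀ {g h : S}, IsConj g h → orderOf g = orderOf h := by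
    intro g h hgh
    obtain ⟨c, rfl⟩ := isConj_iff.1 hgh
    exact ((MulAut.conj c).orderOf_eq g).symm
  have h1 : a ≠ b := fun h => by rw [h, hbo] at ha; omega
  have h2 : a ≠ x := fun h => by rw [h, hx5] at ha; omega
  have h3 : a ≠ x ^ 3 := fun h => by rw [h, hx3o] at ha; omega
  have h4 : (b : S) ≠ x := fun h => by rw [h, hx5] at hbo; omega
  have h5 : (b : S) ≠ x ^ 3 := fun h => by rw [h, hx3o] at hbo; omega
  have h6 : x ≠ x ^ 3 := fun h => hxn 1 (by rw [one_mul, inv_one, mul_one]; exact h)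
  have hxx : ¬ IsConj x (x ^ 3) := fun h => by
    obtain ⟨g, hg⟩ := isConj_iff.1 h
    exact hxn g hg
  refine big_of_cols {a, (b : S), x, x ^ 3} ?_ (fun g => orderOf g) ?_ 14 hk ?_ ?_
  · intro g hg g' hg' hgg
    have ho := hord hgg
    simp only [Finset.mem_insert, Finset.mem_singleton] at hg hg'
    rcases hg with rfl | rfl | rfl | rfl <;> rcases hg' with rfl | rfl | rfl | rfl <;>
      first
        | rfl
        | exact absurd hgg hxx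
        | exact absurd hgg.symm hxx
        | (exfalso; simp only [ha, hbo, hx5, hx3o] at ho; omega)
  · intro g hg
    refine (nv_le_card_centralizer g).trans ?_
    simp only [Finset.mem_insert, Finset.mem_singleton] at hg
    rcases hg with rfl | rfl | rfl | rfl
    · rw [hac, ha]
    · rw [hbo]; exact hbc
    · rw [hx5]; exact hxc1
    · rw [hx3o]; exact hxc3
  · rw [Finset.card_insert_of_notMem (by simp [h1, h2, h3])]
    omega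
  · rw [Finset.card_insert_of_notMem (by simp [h1, h2, h3]),
      Finset.card_insert_of_notMem (by simp [h4, h5]), Finset.card_insert_of_notMem (by simp [h6]),
      Finset.card_singleton, Finset.sum_insert (by simp [h1, h2, h3]),
      Finset.sum_insert (by simp [h4, h5]), Finset.sum_insert (by simp [h6]), Finset.sum_singleton,
      ha, hbo, hx5, hx3o]
    omega

end Cfsg.Agent.H442.ZerosJanko
end
end
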